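import Mathlib

/-!
# Certified transversal chains of permutation groups

Permutations of `Fin n` are coded as natural numbers with `w` bits for each image. A chain of
transversals inside a group of known order exhausts the group as soon as the product of the lengths
equals the order.
-/

set_option autoImplicit false

namespace Cfsg.Agent.Lib.PermOut

variable {n w : ℕ}

/-- The image of `i` under a coded permutation. -/
def im (w p i : ℕ) : ℕ := (p >>> (w * i)) &&& (2 ^ w - 1)

/-- A code is a permutation: every point is an image and nothing else is. -/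
def okP (n w p : ℕ) : Bool :=
  ((List.range n).all fun i => Nat.blt (im w p i) n) &&
    ((List.range n).foldl (fun a i => a ||| (1 <<< im w p i)) 0 == 2 ^ n - 1)

theorem foldl_bit (f : ℕ → ℕ) (j : ℕ) : ∀ (L : List ℕ) (a : ℕ),
    (L.foldl (fun a i => a ||| (1 <<< f i)) a).testBit j = true → a.testBit j = true ∨ ∃ i ∈ L, f i = j := by
  intro L
  induction L with
  | nil => intro a h; exact Or.inl h
  | cons b L ih =>
    intro a h
    rw [List.foldl_cons] at h
    rcases ih _ h with h | ⟨i, hi, he⟩
    · rw [Nat.testBit_or, Bool.or_eq_true] at h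
      rcases h with h | h
      · exact Or.inl h
      · rw [Nat.one_shiftLeft, Nat.testBit_two_pow, decide_eq_true_eq] at h
        exact Or.inr ⟨b, List.mem_cons_self .., h⟩
    · exact Or.inr ⟨i, List.mem_cons_of_mem _ hi, he⟩

/-- The permutation of a code. -/
noncomputable def perm (n w p : ℕ) : Equiv.Perm (Fin n) :=
  if h : okP n w p = true then
    Equiv.ofBijective
      (fun i => ⟨im w p i, by
        simp only [okP, Bool.and_eq_true, List.all_eq_true, List.mem_range, Nat.blt_eq] at h
        exact h.1 i i.2⟩)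
      (by
        refine Finite.surjective_iff_bijective.1 fun j => ?_
        simp only [okP, Bool.and_eq_true, beq_iff_eq] at h
        have hb : ((List.range n).foldl (fun a i => a ||| (1 <<< im w p i)) 0).testBit j = true := by
          rw [h.2, Nat.testBit_two_pow_sub_one]; simp
        rcases foldl_bit (im w p) j _ _ hb with hb | ⟨i, hi, he⟩
        · simp at hb
        · exact ⟨⟨i, List.mem_range.1 hi⟩, Fin.ext he⟩)
  else 1

theorem perm_val {p : ℕ} (h : okP n w p = true) (i : Fin n) : ((perm n w p i : Fin n) : ℕ) = im w p i := by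
  rw [perm, dif_pos h]; rfl

/-- The image of a point under a product of coded permutations. -/
def app (w : ℕ) (l : List ℕ) (i : ℕ) : ℕ := l.foldr (im w) i

/-- The product of coded permutations. -/
noncomputable def prodP (n w : ℕ) (l : List ℕ) : Equiv.Perm (Fin n) := (l.map (perm n w)).prod

theorem app_append (l m : List ℕ) (i : ℕ) : app w (l ++ m) i = app w l (app w m i) := by
  simp [app, List.foldr_append]

theorem prodP_val : ∀ {l : List ℕ}, (∀ p ∈ l, okP n w p = true) →
    ∀ i : Fin n, ((prodP n w l i : Fin n) : ℕ) = app w l i := by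
  intro l
  induction l with
  | nil => intro _ i; rfl
  | cons p l ih =>
    intro h i
    rw [prodP, List.map_cons, List.prod_cons, Equiv.Perm.mul_apply, perm_val (h p (List.mem_cons_self ..))]
    show im w p _ = im w p (app w l i)
    rw [← ih (fun q hq => h q (List.mem_cons_of_mem _ hq))]
    rfl

theorem prodP_append (l m : List ℕ) : prodP n w (l ++ m) = prodP n w l * prodP n w m := by
  simp [prodP]

theorem perm_eq_prodP (p : ℕ) : perm n w p = prodP n w [p] := by simp [prodP]

theorem foldl_bit' (f : ℕ → ℕ) (j : ℕ) : ∀ (L : List ℕ) (a : ℕ),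
    (L.foldl (fun a i => a ||| (1 <<< f i)) a).testBit j = true ↔ a.testBit j = true ∨ ∃ i ∈ L, f i = j := by
  intro L
  induction L with
  | nil => intro a; simp
  | cons b L ih =>
    intro a
    rw [List.foldl_cons, ih, Nat.testBit_or, Bool.or_eq_true, Nat.one_shiftLeft, Nat.testBit_two_pow,
      decide_eq_true_eq]
    simp only [List.mem_cons, exists_eq_or_imp]
    tauto

/-- The values of a permutation form a valid code. -/
theorem okP_of_values {p : ℕ} (σ : Equiv.Perm (Fin n)) (h : ∀ i : Fin n, im w p i = (σ i : ℕ)) :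
    okP n w p = true := by
  simp only [okP, Bool.and_eq_true, List.all_eq_true, List.mem_range, Nat.blt_eq, beq_iff_eq]
  refine ⟨fun i hi => by rw [h ⟨i, hi⟩]; exact (σ _).2, ?_⟩
  refine Nat.eq_of_testBit_eq fun j => ?_
  rw [Bool.eq_iff_iff, foldl_bit', Nat.testBit_two_pow_sub_one, decide_eq_true_eq]
  simp only [Nat.zero_testBit, Bool.false_eq_true, false_or, List.mem_range]
  refine ⟨?_, fun hj => ⟨σ.symm ⟨j, hj⟩, (σ.symm ⟨j, hj⟩).2, by rw [h]; simp⟩⟩
  rintro ⟨i, hi, rfl⟩
  rw [h ⟨i, hi⟩]
  exact (σ _).2

/-- Quick check that `p` is `pa` after `pb`. -/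
def compOK (w mask pa : ℕ) : ℕ → ℕ → ℕ → Bool
  | 0, _, _ => true
  | m + 1, pb, p =>
    Nat.beq (Nat.land (Nat.shiftRight pa (Nat.mul w (Nat.land pb mask))) mask) (Nat.land p mask) &&
      compOK w mask pa m (Nat.shiftRight pb w) (Nat.shiftRight p w)

theorem compOK_spec {pa : ℕ} : ∀ {m pb p : ℕ}, compOK w (2 ^ w - 1) pa m pb p = true →
    ∀ i < m, im w p i = im w pa (im w pb i) := by
  intro m
  induction m with
  | zero => intro pb p _ i hi; omega
  | succ m ih =>
    intro pb p h i hi
    simp only [compOK, Bool.and_eq_true] at h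
    cases i with
    | zero =>
      simp only [im, Nat.mul_zero, Nat.shiftRight_zero]
      exact (Nat.eq_of_beq_eq_true h.1).symm
    | succ i =>
      have := ih h.2 i (by omega)
      simp only [im] at this ⊢
      rw [show w * (i + 1) = w + w * i by ring, Nat.shiftRight_add, Nat.shiftRight_add]
      exact this

/-- Equal permutations from equal values. -/
theorem prodP_eq {l m : List ℕ} (hl : ∀ p ∈ l, okP n w p = true) (hm : ∀ p ∈ m, okP n w p = true)
    (h : (List.range n).all (fun i => app w l i == app w m i) = true) : prodP n w l = prodP n w m :=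
  Equiv.ext fun i => Fin.ext (by
    rw [prodP_val hl, prodP_val hm]
    exact beq_iff_eq.1 (List.all_eq_true.1 h i (List.mem_range.2 i.2)))

/-! ### Straight line programs -/

/-- Each step is a product of two earlier entries, numbered backwards from the latest. -/
def slpOK (n w : ℕ) : List ℕ → List (ℕ × ℕ × ℕ) → Bool
  | _, [] => true
  | acc, (a, b, p) :: r =>
    (Nat.blt a acc.length && Nat.blt b acc.length &&
      compOK w (2 ^ w - 1) (acc.getD a 0) n (acc.getD b 0) p) && slpOK n w (p :: acc) r

/-- The entries of a program. -/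
def slpAll (init : List ℕ) (st : List (ℕ × ℕ × ℕ)) : List ℕ := init ++ st.map fun e => e.2.2

theorem slp_mem {L : Subgroup (Equiv.Perm (Fin n))} : ∀ {st : List (ℕ × ℕ × ℕ)} {acc : List ℕ},
    slpOK n w acc st = true → (∀ p ∈ acc, okP n w p = true ∧ perm n w p ∈ L) →
    ∀ p ∈ slpAll acc st, okP n w p = true ∧ perm n w p ∈ L := by
  intro st
  induction st with
  | nil => intro acc _ h p hp; exact h p (by simpa [slpAll] using hp)
  | cons e r ih =>
    obtain ⟨a, b, q⟩ := e
    intro acc h hacc p hp
    simp only [slpOK, Bool.and_eq_true, Nat.blt_eq] at h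
    obtain ⟨⟨⟨ha, hb⟩, heq⟩, hr⟩ := h
    replace heq := compOK_spec heq
    refine ih hr (fun x hx => ?_) p (by
      simp only [slpAll, List.map_cons, List.mem_append, List.mem_cons] at hp ⊢
      tauto)
    rcases List.mem_cons.1 hx with hx | hx
    swap
    · exact hacc x hx
    rw [hx]
    have ma := hacc _ (show acc.getD a 0 ∈ acc by rw [List.getD_eq_getElem _ _ ha]; exact List.getElem_mem ha)
    have mb := hacc _ (show acc.getD b 0 ∈ acc by rw [List.getD_eq_getElem _ _ hb]; exact List.getElem_mem hb)
    have hq : okP n w q = true := okP_of_values (perm n w (acc.getD a 0) * perm n w (acc.getD b 0)) fun i => by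
      rw [Equiv.Perm.mul_apply, perm_val ma.1, perm_val mb.1]
      exact heq i i.2
    refine ⟨hq, ?_⟩
    have : perm n w q = perm n w (acc.getD a 0) * perm n w (acc.getD b 0) := Equiv.ext fun i => Fin.ext (by
      rw [Equiv.Perm.mul_apply, perm_val hq, perm_val ma.1, perm_val mb.1]
      exact heq i i.2)
    rw [this]
    exact mul_mem ma.2 mb.2

/-! ### Chains -/

/-- The products of one entry from each transversal. -/
def chainSet (n w : ℕ) (Ts : List (List ℕ)) : Set (Equiv.Perm (Fin n)) :=
  {g | ∃ v, List.Forall₂ (fun p T => p ∈ T) v Ts ∧ prodP n w v = g}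

/-- The transversals fix the earlier base points and move the own one to distinct points. -/
def chainOK (n w : ℕ) : List ℕ → List (List ℕ) → List ℕ → Bool
  | [], [], _ => true
  | b :: bs, T :: Ts, done =>
    (Nat.blt b n && (T.all fun t => done.all fun d => im w t d == d) &&
      decide (T.map fun t => im w t b).Nodup) && chainOK n w bs Ts (done ++ [b])
  | _, _, _ => false

theorem chain_fix : ∀ {bs : List ℕ} {Ts : List (List ℕ)} {done : List ℕ}, chainOK n w bs Ts done = true →
    ∀ T ∈ Ts, ∀ t ∈ T, ∀ d ∈ done, im w t d = d := by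
  intro bs
  induction bs with
  | nil => intro Ts done h; cases Ts with
    | nil => simp
    | cons T Ts => simp [chainOK] at h
  | cons b bs ih => intro Ts done h; cases Ts with
    | nil => simp
    | cons T Ts =>
      simp only [chainOK, Bool.and_eq_true, List.all_eq_true, beq_iff_eq] at h
      intro T' hT'
      rcases List.mem_cons.1 hT' with rfl | hT'
      · exact h.1.1.2
      · exact fun t ht d hd => ih h.2 T' hT' t ht d (List.mem_append_left _ hd)

theorem app_fix {v : List ℕ} {d : ℕ} (h : ∀ t ∈ v, im w t d = d) : app w v d = d := by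
  induction v with
  | nil => rfl
  | cons t v ih =>
    show im w t (app w v d) = d
    rw [ih fun s hs => h s (List.mem_cons_of_mem _ hs)]
    exact h t (List.mem_cons_self ..)

theorem forall₂_mem {v : List ℕ} {Ts : List (List ℕ)} (h : List.Forall₂ (fun p T => p ∈ T) v Ts) :
    ∀ p ∈ v, ∃ T ∈ Ts, p ∈ T := by
  induction h with
  | nil => simp
  | cons hp _ ih =>
    intro q hq
    rcases List.mem_cons.1 hq with rfl | hq
    · exact ⟨_, List.mem_cons_self .., hp⟩
    · obtain ⟨T, hT, hm⟩ := ih q hq; exact ⟨T, List.mem_cons_of_mem _ hT, hm⟩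

theorem chain_base_lt : ∀ {bs : List ℕ} {Ts : List (List ℕ)} {done : List ℕ}, chainOK n w bs Ts done = true →
    ∀ b ∈ bs, b < n := by
  intro bs
  induction bs with
  | nil => simp
  | cons b bs ih => intro Ts done h; cases Ts with
    | nil => simp [chainOK] at h
    | cons T Ts =>
      simp only [chainOK, Bool.and_eq_true, Nat.blt_eq] at h
      intro c hc
      rcases List.mem_cons.1 hc with rfl | hc
      · exact h.1.1.1
      · exact ih h.2 c hc

/-- The base determines the entries. -/
theorem chain_inj : ∀ {bs : List ℕ} {Ts : List (List ℕ)} {done : List ℕ}, chainOK n w bs Ts done = true →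
    ∀ {u v : List ℕ}, List.Forall₂ (fun p T => p ∈ T) u Ts → List.Forall₂ (fun p T => p ∈ T) v Ts →
      (∀ T ∈ Ts, ∀ t ∈ T, okP n w t = true) → (∀ b ∈ bs, app w u b = app w v b) → u = v := by
  intro bs
  induction bs with
  | nil => intro Ts done h; cases Ts with
    | nil => intro u v hu hv _ _; cases hu; cases hv; rfl
    | cons T Ts => simp [chainOK] at h
  | cons b bs ih => intro Ts done h; cases Ts with
    | nil => simp [chainOK] at h
    | cons T Ts =>
      intro u v hu hv hok hb
      simp only [chainOK, Bool.and_eq_true, decide_eq_true_eq, Nat.blt_eq] at h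
      obtain ⟨⟨⟨hbn, -⟩, hnd⟩, hr⟩ := h
      cases hu with
      | @cons t _ u' _ ht hu' =>
        cases hv with
        | @cons s _ v' _ hs hv' =>
          have fix : ∀ {x : List ℕ}, List.Forall₂ (fun p T => p ∈ T) x Ts → app w x b = b := fun hx =>
            app_fix fun p hp => by
              obtain ⟨T', hT', hm⟩ := forall₂_mem hx p hp
              exact chain_fix hr T' hT' p hm b (by simp)
          have e0 := hb b (List.mem_cons_self ..)
          change im w t (app w u' b) = im w s (app w v' b) at e0
          rw [fix hu', fix hv'] at e0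
          have : t = s := List.inj_on_of_nodup_map hnd ht hs e0
          subst this
          rw [ih hr hu' hv' (fun T' hT' => hok T' (List.mem_cons_of_mem _ hT')) fun c hc => ?_]
          have e := hb c (List.mem_cons_of_mem _ hc)
          change im w t (app w u' c) = im w t (app w v' c) at e
          have hcn : c < n := chain_base_lt hr c hc
          have hok' : ∀ {x : List ℕ}, List.Forall₂ (fun p T => p ∈ T) x Ts → ∀ p ∈ x, okP n w p = true :=
            fun hx p hp => by
              obtain ⟨T', hT', hm⟩ := forall₂_mem hx p hp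
              exact hok T' (List.mem_cons_of_mem _ hT') p hm
          have htok : okP n w t = true := hok T (List.mem_cons_self ..) t ht
          rw [← prodP_val (hok' hu') ⟨c, hcn⟩, ← prodP_val (hok' hv') ⟨c, hcn⟩] at e ⊢
          rw [← perm_val htok, ← perm_val htok] at e
          exact congrArg Fin.val ((perm n w t).injective (Fin.ext e))

theorem card_vectors : ∀ (Ts : List (List ℕ)), (∀ T ∈ Ts, T.Nodup) →
    ∃ S : Finset (List ℕ), (∀ v, v ∈ S ↔ List.Forall₂ (fun p T => p ∈ T) v Ts) ∧
      S.card = (Ts.map List.length).prod := by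
  intro Ts
  induction Ts with
  | nil => intro _; exact ⟨{[]}, fun v => by simp, by simp⟩
  | cons T Ts ih =>
    intro h
    obtain ⟨S, hS, hc⟩ := ih fun T' hT' => h T' (List.mem_cons_of_mem _ hT')
    refine ⟨(T.toFinset ×ˢ S).map ⟨fun x => x.1 :: x.2, fun x y e => by
      simp only [List.cons.injEq] at e; exact Prod.ext e.1 e.2⟩, fun v => ?_, ?_⟩
    · simp only [Finset.mem_map, Finset.mem_product, List.mem_toFinset, hS, Prod.exists]
      constructor
      · rintro ⟨a, b, ⟨ha, hb⟩, rfl⟩; exact List.Forall₂.cons ha hb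
      · intro hv
        cases hv with
        | cons ha hb => exact ⟨_, _, ⟨ha, hb⟩, rfl⟩
    · rw [Finset.card_map, Finset.card_product, hc, List.toFinset_card_of_nodup (h T (List.mem_cons_self ..))]
      simp

theorem chain_nodup : ∀ {bs : List ℕ} {Ts : List (List ℕ)} {done : List ℕ}, chainOK n w bs Ts done = true →
    ∀ T ∈ Ts, T.Nodup := by
  intro bs
  induction bs with
  | nil => intro Ts done h; cases Ts with
    | nil => simp
    | cons T Ts => simp [chainOK] at h
  | cons b bs ih => intro Ts done h; cases Ts with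
    | nil => simp
    | cons T Ts =>
      simp only [chainOK, Bool.and_eq_true, decide_eq_true_eq] at h
      intro T' hT'
      rcases List.mem_cons.1 hT' with rfl | hT'
      · exact h.1.2.of_map _
      · exact ih h.2 T' hT'

/-- A certified chain in a group of known order. -/
structure Chain (R : Subgroup (Equiv.Perm (Fin n))) (w : ℕ) (bs : List ℕ) (Ts : List (List ℕ)) : Prop where
  ok : chainOK n w bs Ts [] = true
  mem : ∀ T ∈ Ts, ∀ t ∈ T, okP n w t = true ∧ perm n w t ∈ R
  card : (Ts.map List.length).prod = Nat.card R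

variable {R : Subgroup (Equiv.Perm (Fin n))} {bs : List ℕ} {Ts : List (List ℕ)}

theorem Chain.okV (C : Chain R w bs Ts) {v : List ℕ} (hv : List.Forall₂ (fun p T => p ∈ T) v Ts) :
    ∀ p ∈ v, okP n w p = true := fun p hp => by
  obtain ⟨T, hT, hm⟩ := forall₂_mem hv p hp; exact (C.mem T hT p hm).1

theorem Chain.complete (C : Chain R w bs Ts) {g : Equiv.Perm (Fin n)} (hg : g ∈ R) :
    ∃ v, List.Forall₂ (fun p T => p ∈ T) v Ts ∧ prodP n w v = g := by
  classical
  obtain ⟨S, hS, hc⟩ := card_vectors Ts (chain_nodup C.ok)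
  have hmem : ∀ v ∈ S, prodP n w v ∈ R := fun v hv => by
    refine list_prod_mem fun x hx => ?_
    obtain ⟨p, hp, rfl⟩ := List.mem_map.1 hx
    obtain ⟨T, hT, hm⟩ := forall₂_mem ((hS v).1 hv) p hp
    exact (C.mem T hT p hm).2
  let F : S → R := fun v => ⟨prodP n w v.1, hmem v.1 v.2⟩
  have hF : Function.Injective F := fun u v e => by
    have hu := (hS _).1 u.2
    have hv := (hS _).1 v.2
    refine Subtype.ext (chain_inj C.ok hu hv (fun T hT t ht => (C.mem T hT t ht).1) fun b hb => ?_)
    have hbn := chain_base_lt C.ok b hb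
    rw [← prodP_val (C.okV hu) ⟨b, hbn⟩, ← prodP_val (C.okV hv) ⟨b, hbn⟩]
    exact congrArg (fun g : Equiv.Perm (Fin n) => ((g ⟨b, hbn⟩ : Fin n) : ℕ)) (congrArg Subtype.val e)
  have hbij := hF.bijective_of_nat_card_le (by
    rw [Nat.card_eq_finsetCard, hc, C.card])
  obtain ⟨v, hv⟩ := hbij.2 ⟨g, hg⟩
  exact ⟨v.1, (hS _).1 v.2, congrArg Subtype.val hv⟩

theorem Chain.ext (C : Chain R w bs Ts) {g g' : Equiv.Perm (Fin n)} (hg : g ∈ R) (hg' : g' ∈ R)
    (h : ∀ b : Fin n, (b : ℕ) ∈ bs → g b = g' b) : g = g' := by
  obtain ⟨u, hu, rfl⟩ := C.complete hg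
  obtain ⟨v, hv, rfl⟩ := C.complete hg'
  rw [chain_inj C.ok hu hv (fun T hT t ht => (C.mem T hT t ht).1) fun b hb => ?_]
  have hbn := chain_base_lt C.ok b hb
  rw [← prodP_val (C.okV hu) ⟨b, hbn⟩, ← prodP_val (C.okV hv) ⟨b, hbn⟩, h ⟨b, hbn⟩ hb]

theorem Chain.le (C : Chain R w bs Ts) {L : Subgroup (Equiv.Perm (Fin n))}
    (hL : ∀ T ∈ Ts, ∀ t ∈ T, perm n w t ∈ L) : R ≤ L := fun g hg => by
  obtain ⟨v, hv, rfl⟩ := C.complete hg
  refine list_prod_mem fun x hx => ?_
  obtain ⟨p, hp, rfl⟩ := List.mem_map.1 hx
  obtain ⟨T, hT, hm⟩ := forall₂_mem hv p hp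
  exact hL T hT p hm

/-! ### Searching a chain -/

/-- Search through the chain with pruning. -/
def search (ok : ℕ → (ℕ → ℕ) → Bool) (good : (ℕ → ℕ) → Bool) (w : ℕ) : List (List ℕ) → ℕ → List ℕ → Bool
  | [], _, pre => good (app w pre)
  | T :: r, j, pre => T.all fun t => !(ok j (app w (pre ++ [t]))) || search ok good w r (j + 1) (pre ++ [t])

theorem search_aux {ok : ℕ → (ℕ → ℕ) → Bool} {good : (ℕ → ℕ) → Bool} {G : ℕ → ℕ} :
    ∀ {bs' : List ℕ} {Ts' : List (List ℕ)} {done : List ℕ} {pre v : List ℕ},
      chainOK n w bs' Ts' done = true → List.Forall₂ (fun p T => p ∈ T) v Ts' →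
      (∀ i, app w (pre ++ v) i = G i) →
      (∀ k, k < Ts'.length → ∀ F : ℕ → ℕ, (∀ b ∈ done ++ bs'.take (k + 1), F b = G b) →
        ok (done.length + k) F = true) →
      search ok good w Ts' done.length pre = true → ∃ F, (∀ i, F i = G i) ∧ good F = true := by
  intro bs'
  induction bs' with
  | nil =>
    intro Ts' done pre v h hv hG _ hs
    cases Ts' with
    | nil => cases hv; rw [search] at hs; rw [List.append_nil] at hG; exact ⟨_, hG, hs⟩
    | cons T Ts' => simp [chainOK] at h
  | cons b bs' ih =>
    intro Ts' done pre v h hv hG hok hs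
    cases Ts' with
    | nil => simp [chainOK] at h
    | cons T Ts' =>
      simp only [chainOK, Bool.and_eq_true] at h
      cases hv with
      | @cons t _ v' _ ht hv' =>
        rw [search, List.all_eq_true] at hs
        have h1 := hs t ht
        have hk : ok (done.length + 0) (app w (pre ++ [t])) = true := by
          refine hok 0 (by simp) _ fun c hc => ?_
          rw [show pre ++ (t :: v') = (pre ++ [t]) ++ v' by simp] at hG
          have hfix : app w v' c = c := app_fix fun s hs' => by
            obtain ⟨T', hT', hm⟩ := forall₂_mem hv' s hs'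
            exact chain_fix h.2 T' hT' s hm c (by simpa using hc)
          rw [← hG c, app_append (pre ++ [t]) v', hfix]
        simp only [Nat.add_zero] at hk
        rw [hk, Bool.not_true, Bool.false_or] at h1
        refine ih (pre := pre ++ [t]) h.2 hv' (fun i => by rw [List.append_assoc, List.singleton_append]; exact hG i) (fun k hk F hF => ?_) (by simpa using h1)
        have := hok (k + 1) (by simp only [List.length_cons]; omega) F (fun c hc => hF c (by simpa using hc))
        simpa [Nat.add_assoc, Nat.add_comm 1 k] using this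

/-- A finished search bounds the elements passing the tests. -/
theorem Chain.search_sound (C : Chain R w bs Ts) {ok : ℕ → (ℕ → ℕ) → Bool} {good : (ℕ → ℕ) → Bool}
    (hs : search ok good w Ts 0 [] = true) {g : Equiv.Perm (Fin n)} (hg : g ∈ R)
    (hok : ∀ k, k < Ts.length → ∀ F : ℕ → ℕ,
      (∀ b : Fin n, (b : ℕ) ∈ bs.take (k + 1) → F b = g b) → ok k F = true) :
    ∃ F : ℕ → ℕ, (∀ b : Fin n, F b = g b) ∧ good F = true := by
  obtain ⟨v, hv, rfl⟩ := C.complete hg
  obtain ⟨F, hF, hgood⟩ := search_aux (n := n) (ok := ok) (good := good) (G := app w v) (pre := []) (done := [])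
    C.ok hv (fun i => rfl) (fun k hk F hF => by
      rw [List.length_nil, Nat.zero_add]
      exact hok k hk F fun b hb => (hF b (by simpa using hb)).trans (prodP_val (C.okV hv) b).symm) hs
  exact ⟨F, fun b => (hF b).trans (prodP_val (C.okV hv) b).symm, hgood⟩

end Cfsg.Agent.Lib.PermOut
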