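import Cfsg.Agent.Lib.PermOut.Basic
import Cfsg.Agent.Lib.SchurMult.Engine

/-!
# Multiplier certificates for groups of coded permutations
-/

set_option autoImplicit false

namespace Cfsg.Agent.Lib.PermOut

open Cfsg.Agent.Lib.SchurMult

variable {n w : ℕ}

/-- A word of generators as a word of codes. -/
def codes (gs : List ℕ) (wd : List ℕ) : List ℕ := wd.map fun i => gs.getD i 0

/-- The code of a word: the images of some chosen points. -/
def wordKey (w : ℕ) (gs : List ℕ) (pts : List ℕ) (wd : List ℕ) : ℕ :=
  (pts.map (app w (codes gs wd))).foldl (fun a i => (a <<< w) + i) 0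

/-- A strictly increasing list. -/
def incr : List ℕ → Bool
  | a :: b :: r => Nat.blt a b && incr (b :: r)
  | _ => true

/-- Equality of products on all points. -/
def sameAll (n w : ℕ) (l m : List ℕ) : Bool := (List.range n).all fun i => app w l i == app w m i

/-- The relations of a certificate hold. -/
def multRelOK (n w : ℕ) (D : Engine.Data) (gs : List ℕ) : Bool :=
  (List.range D.nv).all fun k => ((D.lhsAt k).all fun i => Nat.blt i D.n) &&
    ((D.rhsAt k).all fun i => Nat.blt i D.n) && sameAll n w (codes gs (D.lhsAt k)) (codes gs (D.rhsAt k))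

/-- The fusion equations of a certificate hold. -/
def multFusOK (n w : ℕ) (D : Engine.Data) (gs cs : List ℕ) : Bool :=
  D.eqs.all fun e => match e with
    | .cons _ _ => true
    | .fus k x y x' y' =>
      Nat.blt k cs.length && ((x ++ y ++ x' ++ y').all fun i => Nat.blt i D.n) &&
        sameAll n w (cs.getD k 0 :: codes gs x) (codes gs x' ++ [cs.getD k 0]) &&
        sameAll n w (cs.getD k 0 :: codes gs y) (codes gs y' ++ [cs.getD k 0])

/-- The normal words are different. -/
def multKeyOK (w : ℕ) (D : Engine.Data) (gs pts sorted : List ℕ) : Bool :=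
  (sorted.length == D.p ^ D.n) && (sorted.all fun k => Nat.blt k (D.p ^ D.n)) &&
    incr (sorted.map fun k => wordKey w gs pts (D.word k))

/-- The generators and conjugating elements come from the pool. -/
def multPoolOK (n : ℕ) (D : Engine.Data) (pool gs cs pts : List ℕ) : Bool :=
  gs.all pool.contains && cs.all pool.contains && (gs.length == D.n) && pts.all fun i => Nat.blt i n

/-- One index of the rewriting check. -/
def closedAt (D : Engine.Data) (k : ℕ) : Bool :=
  (List.range D.n).all fun i =>
    let r := (D.norm (D.word k ++ [i])).1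
    r == D.word (D.code r) && decide (D.code r < D.p ^ D.n)

/-- The rewriting check on the indices from `a` to below `b`. -/
def closedPart (D : Engine.Data) (a b : ℕ) : Bool := (List.range (b - a)).all fun i => closedAt D (a + i)

theorem allOK_of_parts (D : Engine.Data) (c : ℕ) (hc : 0 < c)
    (h : ∀ j, j * c < D.p ^ D.n → closedPart D (j * c) (min (j * c + c) (D.p ^ D.n)) = true)
    (hrest : (D.ordOK && D.eqs.all D.eqOK && D.linOK D.table) = true) : D.allOK = true := by
  have hcl : D.closedOK = true := by
    refine List.all_eq_true.2 fun k hk => ?_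
    rw [List.mem_range] at hk
    have hj : k / c * c ≤ k := Nat.div_mul_le_self k c
    have hlt : k < k / c * c + c := by
      have h1 := Nat.mod_lt k hc
      have h2 := Nat.div_add_mod k c
      rw [Nat.mul_comm c] at h2
      omega
    have := List.all_eq_true.1 (h (k / c) (hj.trans_lt hk)) (k - k / c * c) (List.mem_range.2 (by omega))
    rwa [Nat.add_sub_cancel' hj] at this
  simp only [Bool.and_eq_true] at hrest
  simp only [Engine.Data.allOK, Bool.and_eq_true]
  exact ⟨⟨⟨hcl, hrest.1.1⟩, hrest.1.2⟩, hrest.2⟩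

theorem pairwise_of_incr : ∀ l, incr l = true → l.Pairwise (· < ·)
  | [], _ => List.Pairwise.nil
  | [a], _ => List.pairwise_singleton _ a
  | a :: b :: r, h => by
    simp only [incr, Bool.and_eq_true, Nat.blt_eq] at h
    have ih := pairwise_of_incr (b :: r) h.2
    refine List.pairwise_cons.2 ⟨fun c hc => ?_, ih⟩
    rcases List.mem_cons.1 hc with rfl | hc
    · exact h.1
    · exact lt_trans h.1 ((List.pairwise_cons.1 ih).1 c hc)

theorem mult_bound {R : Subgroup (Equiv.Perm (Fin n))} {D : Engine.Data} {pool gs cs pts sorted : List ℕ}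
    {Γ : Type} [Group Γ] [Finite Γ] {σ : Γ →* R} (hσ : Cfsg.IsStemExtension σ) {p : ℕ} [Fact p.Prime]
    (hp : D.p = p) (hall : D.allOK = true)
    (hpool : ∀ c ∈ pool, okP n w c = true ∧ perm n w c ∈ R)
    (h1 : multPoolOK n D pool gs cs pts = true) (h2 : multRelOK n w D gs = true)
    (h3 : multFusOK n w D gs cs = true) (h4 : multKeyOK w D gs pts sorted = true)
    (hcard : (Nat.card R).factorization p = D.n) {k : ℕ} (hk : p ^ k ∣ Nat.card σ.ker) :
    p ^ k ∣ D.bound := by
  classical
  simp only [multPoolOK, Bool.and_eq_true, List.all_eq_true, List.contains_iff_mem, beq_iff_eq,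
    Nat.blt_eq] at h1
  obtain ⟨⟨⟨hgs, hcs⟩, hlen⟩, hpts⟩ := h1
  simp only [multRelOK, Bool.and_eq_true, List.all_eq_true, List.mem_range, Nat.blt_eq] at h2
  simp only [multKeyOK, Bool.and_eq_true, List.all_eq_true, beq_iff_eq, Nat.blt_eq] at h4
  obtain ⟨⟨hslen, hlt⟩, hinc⟩ := h4
  rw [multFusOK, List.all_eq_true] at h3
  have hm : ∀ {L : List ℕ}, (∀ c ∈ L, c ∈ pool) → ∀ i, i < L.length →
      okP n w (L.getD i 0) = true ∧ perm n w (L.getD i 0) ∈ R := fun hL i hi =>
    hpool _ (hL _ (by rw [List.getD_eq_getElem _ _ hi]; exact List.getElem_mem hi))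
  let el : List ℕ → ℕ → R := fun L i =>
    if h : perm n w (L.getD i 0) ∈ R then ⟨_, h⟩ else 1
  have hev : ∀ wd : List ℕ, (∀ i ∈ wd, i < D.n) →
      ((Engine.Data.ev (el gs) wd : R) : Equiv.Perm (Fin n)) = prodP n w (codes gs wd) ∧
        ∀ q ∈ codes gs wd, okP n w q = true := by
    intro wd hwd
    refine ⟨?_, fun q hq => ?_⟩
    · rw [Engine.Data.ev, SubmonoidClass.coe_list_prod, List.map_map, prodP, codes, List.map_map]
      refine congrArg List.prod (List.map_congr_left fun i hi => ?_)
      simp only [Function.comp_def, el, dif_pos (hm hgs i (hlen ▸ hwd i hi)).2]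
    · obtain ⟨i, hi, rfl⟩ := List.mem_map.1 hq
      exact (hm hgs i (hlen ▸ hwd i hi)).1
  have hword : ∀ j, ∀ i ∈ D.word j, i < D.n := fun j i hi => by
    simp only [Engine.Data.word, List.mem_flatMap, List.mem_range] at hi
    obtain ⟨a, ha, hi⟩ := hi
    rw [List.eq_of_mem_replicate hi]; exact ha
  refine Engine.bound_main D hσ hp hall (el gs) (el cs) (fun j hj => ?_) (fun a ha b hb hab => ?_)
    (fun e he => ?_) hcard hk
  · obtain ⟨⟨a1, a2⟩, a3⟩ := h2 j hj
    obtain ⟨l1, l2⟩ := hev _ a1
    obtain ⟨r1, r2⟩ := hev _ a2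
    exact Subtype.ext (by rw [l1, r1]; exact prodP_eq l2 r2 a3)
  · have hpw := pairwise_of_incr _ hinc
    have hnd : sorted.Nodup := List.Nodup.of_map _ (hpw.imp fun h => h.ne)
    have hperm : ∀ c, c < D.p ^ D.n → c ∈ sorted := by
      intro c hc
      have hsub : sorted.toFinset ⊆ Finset.range (D.p ^ D.n) := fun x hx =>
        Finset.mem_range.2 (hlt x (List.mem_toFinset.1 hx))
      have := Finset.eq_of_subset_of_card_le hsub (by
        rw [List.toFinset_card_of_nodup hnd, hslen, Finset.card_range])
      rw [← List.mem_toFinset, this, Finset.mem_range]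
      exact hc
    obtain ⟨l1, l2⟩ := hev _ (hword a)
    obtain ⟨r1, r2⟩ := hev _ (hword b)
    have hkey : wordKey w gs pts (D.word a) = wordKey w gs pts (D.word b) := by
      refine congrArg (List.foldl _ 0) (List.map_congr_left fun i hi => ?_)
      rw [← prodP_val l2 ⟨i, hpts i hi⟩, ← prodP_val r2 ⟨i, hpts i hi⟩, ← l1, ← r1, hab]
    exact List.inj_on_of_nodup_map (hpw.imp fun h => h.ne) (hperm a ha) (hperm b hb) hkey
  · rcases e with ⟨u, v⟩ | ⟨j, x, y, x', y'⟩
    · trivial
    · have h := h3 _ he
      simp only [Bool.and_eq_true, List.all_eq_true, Nat.blt_eq, List.mem_append] at h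
      obtain ⟨⟨⟨hj, hw'⟩, hx⟩, hy⟩ := h
      have step : ∀ a b : List ℕ, (∀ i ∈ a, i < D.n) → (∀ i ∈ b, i < D.n) →
          sameAll n w (cs.getD j 0 :: codes gs a) (codes gs b ++ [cs.getD j 0]) = true →
          el cs j * Engine.Data.ev (el gs) a = Engine.Data.ev (el gs) b * el cs j := by
        intro a b ha hb hs
        obtain ⟨a1, a2⟩ := hev a ha
        obtain ⟨b1, b2⟩ := hev b hb
        obtain ⟨cok, cmem⟩ := hm hcs j hj
        have := prodP_eq (n := n) (w := w) (fun q hq => by
            rcases List.mem_cons.1 hq with rfl | hq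
            · exact cok
            · exact a2 q hq)
          (fun q hq => by
            rcases List.mem_append.1 hq with hq | hq
            · exact b2 q hq
            · rw [List.mem_singleton.1 hq]; exact cok) hs
        rw [← List.singleton_append (x := cs.getD j 0), prodP_append, prodP_append, ← perm_eq_prodP] at this
        refine Subtype.ext ?_
        rw [Subgroup.coe_mul, Subgroup.coe_mul, a1, b1]
        simp only [el, dif_pos cmem]
        exact this
      exact ⟨step x x' (fun i hi => hw' i (by simp [hi])) (fun i hi => hw' i (by simp [hi])) hx,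
        step y y' (fun i hi => hw' i (by simp [hi])) (fun i hi => hw' i (by simp [hi])) hy⟩

end Cfsg.Agent.Lib.PermOut
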