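import Cfsg.Agent.Lib.PermOut.Basic
import Cfsg.Prelude.Def_KGroupFacts

/-!
# Certificates that a permutation group has outer automorphism group of order two

The group is generated by `x`, `h`, `s`, where `x` generates a Sylow subgroup of prime order normalised
by `h`, and `s` commutes with a power `y` of `h`.  Searches through two chains determine the
centralisers of `x` and of `y` as far as needed.
-/

set_option autoImplicit false

namespace Cfsg.Agent.Lib.PermOut

/-- The data of a certificate. -/
structure Cert where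
  n : ℕ
  w : ℕ
  p : ℕ
  e : ℕ
  f : ℕ
  ho : ℕ
  kp : ℕ
  gens : List ℕ
  slp1 : List (ℕ × ℕ × ℕ)
  slp2 : List (ℕ × ℕ × ℕ)
  x : ℕ
  h : ℕ
  s : ℕ
  tau : ℕ
  tauS : ℕ
  bsX : List ℕ
  tsX : List (List ℕ)
  planX : List (List (ℕ × ℕ))
  bsY : List ℕ
  tsY : List (List ℕ)
  planY : List (List (ℕ × ℕ))
  fixers : List ℕ
  ones : List (List ℕ)
  nots : List (List ℕ)

namespace Cert

variable (D : Cert)

/-- The permutation of a code. -/
noncomputable def pm (c : ℕ) : Equiv.Perm (Fin D.n) := perm D.n D.w c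

/-- The power of `h` centralised by `s`. -/
def y : List ℕ := List.replicate D.kp D.h

/-- The value of a word in `x`, `h` and a third map. -/
def evalW (F : ℕ → ℕ) (wd : List ℕ) (i : ℕ) : ℕ :=
  wd.foldr (fun a j => if a == 0 then im D.w D.x j else if a == 1 then im D.w D.h j else F j) i

/-- All entries obtained from `x`, `h`, `s`. -/
def subAll : List ℕ := slpAll [D.x, D.h, D.s] D.slp2

/-- Equality of two products on all points. -/
def same (l m : List ℕ) : Bool := (List.range D.n).all fun i => app D.w l i == app D.w m i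

/-- Programs and memberships. -/
def slpsOK : Bool :=
  D.gens.all (okP D.n D.w) && slpOK D.n D.w D.gens D.slp1 &&
    ([D.x, D.h, D.s].all fun c => (slpAll D.gens D.slp1).contains c) &&
    slpOK D.n D.w [D.x, D.h, D.s] D.slp2

/-- The transversals are entries. -/
def transOK : Bool :=
  (D.tsX.all fun T => T.all D.subAll.contains) && (D.tsY.all fun T => T.all D.subAll.contains)

/-- The relations. -/
def relOK : Bool :=
  Nat.blt 1 D.p && Nat.blt 0 D.ho && okP D.n D.w D.tau && D.subAll.contains D.tauS &&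
    D.same (List.replicate D.p D.x) [] && !D.same [D.x] [] &&
    D.same (List.replicate D.ho D.h) [] &&
    D.same [D.h, D.x] (List.replicate D.e D.x ++ [D.h]) &&
    D.same (D.y ++ [D.s]) (D.s :: D.y) &&
    D.same [D.tau, D.tau] [] &&
    D.same [D.tau, D.x, D.tau] (List.replicate D.f D.x) &&
    D.same [D.tau, D.h, D.tau] [D.h] &&
    D.same [D.tau, D.s, D.tau] [D.tauS] &&
    (D.fixers.all fun a => okP D.n D.w a && (a == D.tau || D.subAll.contains a) && D.same [a, a] [] &&
      D.same [a, D.x, a] [D.x] && D.same [a, D.h, a] [D.h]) &&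
    (D.ones.all fun wd => (List.range D.n).all fun i => D.evalW (im D.w D.s) wd i == i) &&
    (D.nots.all fun wd => (List.range D.n).any fun i => D.evalW (im D.w D.s) wd i != i)

/-- Every residue is reached and every power can be absorbed. -/
def resOK : Bool :=
  ((List.range D.p).all fun r => r == 0 ||
    (List.range D.p).any fun i => D.e ^ i % D.p == r || D.e ^ i % D.p == D.f * r % D.p) &&
  ((List.range D.p).all fun i => (List.range D.p).any fun j => (List.range D.p).any fun k =>
    D.e * k % D.p == j && (k + i) % D.p == j)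

/-- A plan only uses known base points. -/
def planOK (z : List ℕ) (bs : List ℕ) (plan : List (List (ℕ × ℕ))) : Bool :=
  (List.range plan.length).all fun k => (plan.getD k []).all fun bc =>
    (bs.take (k + 1)).contains bc.1 && (bs.take (k + 1)).contains bc.2 && app D.w z bc.1 == bc.2

/-- The constraints of commuting with `z`. -/
def okC (z : List ℕ) (plan : List (List (ℕ × ℕ))) (k : ℕ) (F : ℕ → ℕ) : Bool :=
  (plan.getD k []).all fun bc => F bc.2 == app D.w z (F bc.1)

/-- The leaves of the first search. -/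
def goodX (F : ℕ → ℕ) : Bool :=
  ((List.range D.p).any fun i => D.bsX.all fun b => F b == app D.w (List.replicate i D.x) b) ||
    D.bsX.any fun b => (List.replicate D.ho ()).foldr (fun _ q => im D.w D.h (F q)) b != b

/-- The leaves of the second search. -/
def goodY (F : ℕ → ℕ) : Bool :=
  (D.fixers.any fun a => D.bsY.all fun b => F b == app D.w [a, D.s, a] b) ||
    (D.ones.any fun wd => D.bsY.any fun b => D.evalW F wd b != b) ||
    D.nots.any fun wd => D.bsY.all fun b => D.evalW F wd b == b

/-- The constraints of equalling `tau`. -/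
def okT (k : ℕ) (F : ℕ → ℕ) : Bool := F (D.bsX.getD k 0) == im D.w D.tau (D.bsX.getD k 0)

/-- The leaves of the third search. -/
def goodT (F : ℕ → ℕ) : Bool := (List.range D.n).any fun i => F i != im D.w D.tau i

/-- The centraliser of the group in the symmetric group is trivial. -/
def moveOK : Bool :=
  match D.bsX, D.tsX with
  | b :: _, T :: Ts => (T.length == D.n) && (List.range D.n).all fun q => q == b ||
      Ts.flatten.any fun t => im D.w t q != q
  | _, _ => false

/-- All certificate checks. -/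
structure Checks : Prop where
  slps : D.slpsOK = true
  trans : D.transOK = true
  chainX : chainOK D.n D.w D.bsX D.tsX [] = true
  chainY : chainOK D.n D.w D.bsY D.tsY [] = true
  rel : D.relOK = true
  res : D.resOK = true
  planX : D.planOK [D.x] D.bsX D.planX = true
  planY : D.planOK D.y D.bsY D.planY = true
  searchX : search (D.okC [D.x] D.planX) D.goodX D.w D.tsX 0 [] = true
  searchY : search (D.okC D.y D.planY) D.goodY D.w D.tsY 0 [] = true
  searchT : search D.okT D.goodT D.w D.tsX 0 [] = true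
  move : D.moveOK = true

end Cert

section group

variable {n w : ℕ}

theorem same_prod {D : Cert} {l m : List ℕ} (hl : ∀ p ∈ l, okP D.n D.w p = true)
    (hm : ∀ p ∈ m, okP D.n D.w p = true) (h : D.same l m = true) :
    prodP D.n D.w l = prodP D.n D.w m := prodP_eq hl hm h

theorem prodP_replicate (k c : ℕ) : prodP n w (List.replicate k c) = perm n w c ^ k := by
  simp [prodP]

end group

namespace Cert

variable {D : Cert} {R : Subgroup (Equiv.Perm (Fin D.n))}

theorem Checks.facts (C : D.Checks) :
    okP D.n D.w D.x = true ∧ okP D.n D.w D.h = true ∧ okP D.n D.w D.s = true ∧ okP D.n D.w D.tau = true := by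
  have h1 := C.slps
  simp only [slpsOK, Bool.and_eq_true, List.all_eq_true] at h1
  obtain ⟨⟨⟨hg, hs1⟩, hc⟩, hs2⟩ := h1
  have hall := slp_mem (L := (⊤ : Subgroup (Equiv.Perm (Fin D.n)))) hs1 fun q hq => ⟨hg q hq, trivial⟩
  have h3 := C.rel
  simp only [relOK, Bool.and_eq_true] at h3
  exact ⟨(hall _ (List.contains_iff_mem.1 (hc _ (by simp)))).1, (hall _ (List.contains_iff_mem.1 (hc _ (by simp)))).1,
    (hall _ (List.contains_iff_mem.1 (hc _ (by simp)))).1, h3.1.1.1.1.1.1.1.1.1.1.1.1.1.2⟩

theorem Checks.sub_mem (C : D.Checks) {L : Subgroup (Equiv.Perm (Fin D.n))}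
    (hx : D.pm D.x ∈ L) (hh : D.pm D.h ∈ L) (hs : D.pm D.s ∈ L) :
    ∀ c ∈ D.subAll, okP D.n D.w c = true ∧ D.pm c ∈ L := by
  obtain ⟨ox, oh, os, -⟩ := C.facts
  have h1 := C.slps
  simp only [slpsOK, Bool.and_eq_true] at h1
  refine slp_mem h1.2 fun q hq => ?_
  simp only [List.mem_cons, List.not_mem_nil, or_false] at hq
  rcases hq with rfl | rfl | rfl
  exacts [⟨ox, hx⟩, ⟨oh, hh⟩, ⟨os, hs⟩]

theorem Checks.xhs_mem (C : D.Checks) (hgens : ∀ c ∈ D.gens, D.pm c ∈ R) :
    D.pm D.x ∈ R ∧ D.pm D.h ∈ R ∧ D.pm D.s ∈ R := by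
  have h1 := C.slps
  simp only [slpsOK, Bool.and_eq_true, List.all_eq_true] at h1
  obtain ⟨⟨⟨hg, hs1⟩, hc⟩, -⟩ := h1
  have hall := slp_mem (L := R) hs1 fun q hq => ⟨hg q hq, hgens q hq⟩
  exact ⟨(hall _ (List.contains_iff_mem.1 (hc _ (by simp)))).2,
    (hall _ (List.contains_iff_mem.1 (hc _ (by simp)))).2, (hall _ (List.contains_iff_mem.1 (hc _ (by simp)))).2⟩

/-- The products of the lengths of the two chains are the order of the group. -/
def orderOK (D : Cert) (N : ℕ) : Bool :=
  (D.tsX.map List.length).prod == N && (D.tsY.map List.length).prod == N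

theorem Checks.chains (C : D.Checks) (hgens : ∀ c ∈ D.gens, D.pm c ∈ R)
    (hord : D.orderOK (Nat.card R) = true) :
    Chain R D.w D.bsX D.tsX ∧ Chain R D.w D.bsY D.tsY := by
  obtain ⟨hx, hh, hs⟩ := C.xhs_mem hgens
  have ht := C.trans
  simp only [transOK, Bool.and_eq_true, List.all_eq_true] at ht
  simp only [orderOK, Bool.and_eq_true, beq_iff_eq] at hord
  exact ⟨⟨C.chainX, fun T hT t hm => C.sub_mem hx hh hs t (List.contains_iff_mem.1 (ht.1 T hT t hm)), hord.1⟩,
    ⟨C.chainY, fun T hT t hm => C.sub_mem hx hh hs t (List.contains_iff_mem.1 (ht.2 T hT t hm)), hord.2⟩⟩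

theorem okC_of_commute {z : List ℕ} {bs : List ℕ} {plan : List (List (ℕ × ℕ))}
    (hp : D.planOK z bs plan = true) (hz : ∀ c ∈ z, okP D.n D.w c = true) (hbs : ∀ b ∈ bs, b < D.n)
    {g : Equiv.Perm (Fin D.n)} (hg : g * prodP D.n D.w z = prodP D.n D.w z * g) (k : ℕ) (F : ℕ → ℕ)
    (hF : ∀ b : Fin D.n, (b : ℕ) ∈ bs.take (k + 1) → F b = g b) : D.okC z plan k F = true := by
  rw [okC, List.all_eq_true]
  intro bc hbc
  have hk : k < plan.length := by
    by_contra hk
    rw [List.getD_eq_default _ _ (not_lt.1 hk)] at hbc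
    simp at hbc
  simp only [planOK, List.all_eq_true, List.mem_range, Bool.and_eq_true, List.contains_iff_mem,
    beq_iff_eq] at hp
  obtain ⟨⟨h1, h2⟩, h3⟩ := hp k hk bc hbc
  have l1 := hbs _ (List.mem_of_mem_take h1)
  have l2 := hbs _ (List.mem_of_mem_take h2)
  rw [beq_iff_eq, hF ⟨bc.1, l1⟩ h1, hF ⟨bc.2, l2⟩ h2]
  have e : prodP D.n D.w z ⟨bc.1, l1⟩ = ⟨bc.2, l2⟩ := Fin.ext ((prodP_val hz _).trans h3)
  rw [← prodP_val hz, ← e]
  exact congrArg (fun q : Equiv.Perm (Fin D.n) => ((q ⟨bc.1, l1⟩ : Fin D.n) : ℕ)) hg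

/-- The value of a word. -/
noncomputable def wordP (D : Cert) (g : Equiv.Perm (Fin D.n)) (wd : List ℕ) : Equiv.Perm (Fin D.n) :=
  (wd.map fun a => if a == 0 then D.pm D.x else if a == 1 then D.pm D.h else g).prod

theorem wordP_val (C : D.Checks) {g : Equiv.Perm (Fin D.n)} {F : ℕ → ℕ}
    (hF : ∀ b : Fin D.n, F b = g b) (wd : List ℕ) (i : Fin D.n) :
    ((D.wordP g wd i : Fin D.n) : ℕ) = D.evalW F wd i := by
  obtain ⟨ox, oh, -, -⟩ := C.facts
  induction wd with
  | nil => rfl
  | cons a wd ih =>
    rw [wordP, List.map_cons, List.prod_cons, Equiv.Perm.mul_apply]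
    show _ = (if a == 0 then _ else if a == 1 then _ else F _)
    rw [← show ((D.wordP g wd i : Fin D.n) : ℕ) = wd.foldr (fun a j => if a == 0 then im D.w D.x j else
      if a == 1 then im D.w D.h j else F j) i from ih]
    split_ifs
    · exact perm_val ox _
    · exact perm_val oh _
    · exact (hF _).symm

/-- The same word in the group. -/
noncomputable def wordR (x h g : R) (wd : List ℕ) : R :=
  (wd.map fun a => if a == 0 then x else if a == 1 then h else g).prod

theorem map_wordR (β : R →* R) (x h g : R) (wd : List ℕ) :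
    β (wordR x h g wd) = wordR (β x) (β h) (β g) wd := by
  simp only [wordR, map_list_prod, List.map_map]
  congr 1
  refine List.map_congr_left fun a _ => ?_
  simp only [Function.comp_apply]
  split_ifs <;> rfl

theorem coe_wordR {x h g : R} (hx : (x : Equiv.Perm (Fin D.n)) = D.pm D.x)
    (hh : (h : Equiv.Perm (Fin D.n)) = D.pm D.h) (wd : List ℕ) :
    ((wordR x h g wd : R) : Equiv.Perm (Fin D.n)) = D.wordP g wd := by
  simp only [wordR, wordP, SubmonoidClass.coe_list_prod, List.map_map]
  congr 1
  refine List.map_congr_left fun a _ => ?_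
  simp only [Function.comp_apply]
  split_ifs
  exacts [hx, hh, rfl]

theorem card_out (C : D.Checks) (hgens : ∀ c ∈ D.gens, D.pm c ∈ R) (hord : D.orderOK (Nat.card R) = true)
    (hp : D.p.Prime) (hsq : ¬ D.p ^ 2 ∣ Nat.card R) : Nat.card (Cfsg.Out R) = 2 := by
  haveI := Fact.mk hp
  haveI : Finite R := inferInstance
  obtain ⟨ox, oh, os, ot⟩ := C.facts
  obtain ⟨mx, mh, ms⟩ := C.xhs_mem hgens
  obtain ⟨CX, CY⟩ := C.chains hgens hord
  have hbX := chain_base_lt C.chainX
  have hbY := chain_base_lt C.chainY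
  have hsub := fun {L : Subgroup (Equiv.Perm (Fin D.n))} => C.sub_mem (L := L)
  set x : R := ⟨_, mx⟩ with hx0
  set h : R := ⟨_, mh⟩ with hh0
  set s : R := ⟨_, ms⟩ with hs0
  have hrel := C.rel
  simp only [relOK, Bool.and_eq_true, List.all_eq_true, Bool.not_eq_true'] at hrel
  obtain ⟨⟨⟨⟨⟨⟨⟨⟨⟨⟨⟨⟨⟨⟨⟨hp1, hho⟩, -⟩, mtS⟩, rxp⟩, rxne⟩, rhh⟩, rhx⟩, rys⟩, rtt⟩, rtx⟩, rth⟩, rts⟩,
    rfix⟩, rones⟩, rnots⟩ := hrel
  have otS := (hsub mx mh ms _ (List.contains_iff_mem.1 mtS))
  have okrep : ∀ {k c : ℕ}, okP D.n D.w c = true → ∀ q ∈ List.replicate k c, okP D.n D.w q = true :=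
    fun hc q hq => by rw [List.eq_of_mem_replicate hq]; exact hc
  set τ := D.pm D.tau with hτ
  have ett : τ * τ = 1 := by
    have := same_prod (by simp [ot]) (by simp) rtt
    simpa [hτ, Cert.pm, prodP] using this
  have etx : τ * D.pm D.x * τ = D.pm D.x ^ D.f := by
    have := same_prod (by simp [ot, ox]) (okrep ox) rtx
    rw [prodP_replicate] at this
    simpa [hτ, Cert.pm, prodP, mul_assoc] using this
  have eth : τ * D.pm D.h * τ = D.pm D.h := by
    have := same_prod (by simp [ot, oh]) (by simp [oh]) rth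
    simpa [hτ, Cert.pm, prodP, mul_assoc] using this
  have ets : τ * D.pm D.s * τ = D.pm D.tauS := by
    have := same_prod (by simp [ot, os]) (by simp [otS.1]) rts
    simpa [hτ, Cert.pm, prodP, mul_assoc] using this
  -- generation
  have hclos : ∀ L : Subgroup (Equiv.Perm (Fin D.n)), D.pm D.x ∈ L → D.pm D.h ∈ L → D.pm D.s ∈ L → R ≤ L := by
    intro L a b c
    have ht := C.trans
    simp only [transOK, Bool.and_eq_true, List.all_eq_true] at ht
    exact CX.le fun T hT t hm => (hsub a b c t (List.contains_iff_mem.1 (ht.1 T hT t hm))).2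
  have hnorm : ∀ g ∈ R, τ * g * τ ∈ R := by
    have := hclos (R.comap (MulAut.conj τ).toMonoidHom)
      (by show τ * _ * τ⁻¹ ∈ R; rw [inv_eq_of_mul_eq_one_right ett, etx]; exact pow_mem mx _)
      (by show τ * _ * τ⁻¹ ∈ R; rw [inv_eq_of_mul_eq_one_right ett, eth]; exact mh)
      (by show τ * _ * τ⁻¹ ∈ R; rw [inv_eq_of_mul_eq_one_right ett, ets]; exact otS.2)
    intro g hg
    have := this hg
    rwa [Subgroup.mem_comap, MulEquiv.coe_toMonoidHom, MulAut.conj_apply, inv_eq_of_mul_eq_one_right ett] at this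
  let T : MulAut R :=
    { toFun := fun g => ⟨τ * g.1 * τ, hnorm _ g.2⟩
      invFun := fun g => ⟨τ * g.1 * τ, hnorm _ g.2⟩
      left_inv := fun g => Subtype.ext (by
        show τ * (τ * g.1 * τ) * τ = g.1
        simp only [← mul_assoc, ett, one_mul]; rw [mul_assoc, ett, mul_one])
      right_inv := fun g => Subtype.ext (by
        show τ * (τ * g.1 * τ) * τ = g.1
        simp only [← mul_assoc, ett, one_mul]; rw [mul_assoc, ett, mul_one])
      map_mul' := fun a b => Subtype.ext (by
        show τ * (a.1 * b.1) * τ = (τ * a.1 * τ) * (τ * b.1 * τ)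
        simp only [mul_assoc, ← mul_assoc τ τ, ett, one_mul]) }
  have hT : ∀ g : R, ((T g : R) : Equiv.Perm (Fin D.n)) = τ * g * τ := fun g => rfl
  have hTT : T * T = 1 := MulEquiv.ext fun g => T.left_inv g
  -- homomorphisms agree on the generators
  have aut_ext : ∀ β γ : MulAut R, β x = γ x → β h = γ h → β s = γ s → β = γ := by
    intro β γ a b c
    refine MulEquiv.ext fun g => ?_
    obtain ⟨g', hg', e⟩ := hclos ((MonoidHom.eqLocus β.toMonoidHom γ.toMonoidHom).map R.subtype)
      ⟨x, a, rfl⟩ ⟨h, b, rfl⟩ ⟨s, c, rfl⟩ g.2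
    rw [show g = g' from Subtype.ext e.symm]
    exact hg'
  let q : MulAut R → Cfsg.Out R := fun a => QuotientGroup.mk a
  let P : MulAut R → Prop := fun a => q a = 1 ∨ q a = q T
  have hqT : q T * q T = 1 := by
    show (QuotientGroup.mk T : Cfsg.Out R) * QuotientGroup.mk T = 1
    rw [← QuotientGroup.mk_mul, hTT, QuotientGroup.mk_one]
  have hqc : ∀ g : R, q (MulAut.conj g) = 1 := fun g =>
    (QuotientGroup.eq_one_iff _).2 (show MulAut.conj g ∈ Cfsg.Inn R from ⟨g, rfl⟩)
  have hPc : ∀ (g : R) a, P (MulAut.conj g * a) → P a := by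
    intro g a ha
    have : q (MulAut.conj g * a) = q a := by
      show (QuotientGroup.mk (MulAut.conj g * a) : Cfsg.Out R) = _
      rw [QuotientGroup.mk_mul, show (QuotientGroup.mk (MulAut.conj g) : Cfsg.Out R) = 1 from hqc g, one_mul]
    simpa [P, this] using ha
  have hPT : ∀ a, P (T * a) → P a := by
    intro a ha
    have e : q (T * a) = q T * q a := QuotientGroup.mk_mul _ _ _
    rcases ha with ha | ha <;> rw [e] at ha
    · exact Or.inr (mul_left_cancel (ha.trans hqT.symm))
    · exact Or.inl (mul_left_cancel (ha.trans (mul_one _).symm))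
  -- facts about `x` and `h`
  have exp : x ^ D.p = 1 := Subtype.ext (by
    have := same_prod (okrep ox) (by simp) rxp
    rw [prodP_replicate] at this
    simpa [prodP, hx0, Cert.pm] using this)
  have exne : x ≠ 1 := fun e => by
    rw [Bool.eq_false_iff] at rxne
    refine rxne (List.all_eq_true.2 fun i hi => ?_)
    rw [beq_iff_eq]
    have hv := prodP_val (l := [D.x]) (by simpa using ox) ⟨i, List.mem_range.1 hi⟩
    rw [← perm_eq_prodP, show perm D.n D.w D.x = 1 from congrArg Subtype.val e] at hv
    exact hv.symm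
  have hord' : orderOf x = D.p := orderOf_eq_prime exp exne
  have xmod : ∀ a, x ^ a = x ^ (a % D.p) := fun a => by rw [← hord', pow_mod_orderOf]
  have ehh : h ^ D.ho = 1 := Subtype.ext (by
    have := same_prod (okrep oh) (by simp) rhh
    rw [prodP_replicate] at this
    simpa [prodP, hh0, Cert.pm] using this)
  have ehx : h * x = x ^ D.e * h := Subtype.ext (by
    have hok : ∀ q ∈ List.replicate D.e D.x ++ [D.h], okP D.n D.w q = true := fun q hq => by
      rcases List.mem_append.1 hq with hq | hq
      · exact okrep ox q hq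
      · rw [List.mem_singleton.1 hq]; exact oh
    have := same_prod (by simp [oh, ox]) hok rhx
    rw [prodP_append, prodP_replicate] at this
    simpa [prodP, hx0, hh0, Cert.pm] using this)
  have hpow : ∀ i : ℕ, h ^ i * x * (h ^ i)⁻¹ = x ^ (D.e ^ i) := by
    intro i
    induction i with
    | zero => simp
    | succ i ih =>
      have h3 : h * x * h⁻¹ = x ^ D.e := by rw [ehx, mul_inv_cancel_right]
      calc h ^ (i + 1) * x * (h ^ (i + 1))⁻¹ = h * (h ^ i * x * (h ^ i)⁻¹) * h⁻¹ := by
            rw [pow_succ']; group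
        _ = (h * x * h⁻¹) ^ (D.e ^ i) := by rw [ih, conj_pow]
        _ = x ^ (D.e ^ (i + 1)) := by rw [h3, ← pow_mul, ← pow_succ']
  have eys : h ^ D.kp * s = s * h ^ D.kp := Subtype.ext (by
    have hy : ∀ q ∈ D.y, okP D.n D.w q = true := okrep oh
    have := same_prod (l := D.y ++ [D.s]) (m := D.s :: D.y) (by simpa [or_imp, forall_and, os] using hy)
      (by simpa [os] using hy) rys
    rw [← List.singleton_append (x := D.s), prodP_append, prodP_append, y, prodP_replicate] at this
    simpa [prodP, hh0, hs0, Cert.pm] using this)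
  have hres := C.res
  simp only [resOK, Bool.and_eq_true, List.all_eq_true, List.any_eq_true, List.mem_range, Bool.or_eq_true,
    beq_iff_eq] at hres
  -- `β` fixing `x` and `h`
  have stab : ∀ β : MulAut R, β x = x → β h = h → P β := by
    intro β bx bh
    have hc : (β s : Equiv.Perm (Fin D.n)) * prodP D.n D.w D.y = prodP D.n D.w D.y * β s := by
      have := congrArg β eys
      rw [map_mul, map_mul, map_pow, bh] at this
      have := (congrArg Subtype.val this).symm
      simpa [y, prodP_replicate, hh0, Cert.pm] using this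
    obtain ⟨F, hF, hgood⟩ := CY.search_sound C.searchY (β s).2 fun k _ F hF =>
      okC_of_commute C.planY (okrep oh) hbY hc k F hF
    simp only [goodY, Bool.or_eq_true, List.any_eq_true, List.all_eq_true, bne_iff_ne, beq_iff_eq] at hgood
    have hw : ∀ wd, ((β (wordR x h s wd) : R) : Equiv.Perm (Fin D.n)) = D.wordP (β s) wd := fun wd => by
      rw [show β (wordR x h s wd) = β.toMonoidHom (wordR x h s wd) from rfl, map_wordR,
        coe_wordR (D := D) (x := β.toMonoidHom x) (h := β.toMonoidHom h) (congrArg Subtype.val bx)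
          (congrArg Subtype.val bh)]
      rfl
    rcases hgood with (⟨a, ha, he⟩ | ⟨wd, hwd, b, hb, hne⟩) | ⟨wd, hwd, he⟩
    · obtain ⟨⟨⟨⟨oa, hat⟩, raa⟩, rax⟩, rah⟩ := by simpa [Bool.and_eq_true] using rfix a ha
      have eaa : D.pm a * D.pm a = 1 := by
        have := same_prod (by simp [oa]) (by simp) raa
        simpa [prodP, Cert.pm] using this
      have eax : D.pm a * D.pm D.x * D.pm a = D.pm D.x := by
        have := same_prod (by simp [oa, ox]) (by simp [ox]) rax
        simpa [prodP, mul_assoc, Cert.pm] using this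
      have eah : D.pm a * D.pm D.h * D.pm a = D.pm D.h := by
        have := same_prod (by simp [oa, oh]) (by simp [oh]) rah
        simpa [prodP, mul_assoc, Cert.pm] using this
      have hγ : ∃ γ : MulAut R, P γ ∧ ∀ g : R, ((γ g : R) : Equiv.Perm (Fin D.n)) = D.pm a * g * D.pm a := by
        rcases hat with rfl | hat
        · exact ⟨T, Or.inr rfl, hT⟩
        · refine ⟨MulAut.conj ⟨D.pm a, (hsub mx mh ms a hat).2⟩, Or.inl (hqc _), fun g => ?_⟩
          show D.pm a * g * (D.pm a)⁻¹ = _
          rw [inv_eq_of_mul_eq_one_right eaa]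
      obtain ⟨γ, hγP, hγ⟩ := hγ
      have es : β s = γ s := by
        refine Subtype.ext (CY.ext (β s).2 (γ s).2 fun b hb => ?_)
        apply Fin.ext
        rw [← hF b, he b hb, ← prodP_val (by simp [oa, os])]
        rw [hγ s]
        simp [prodP, hs0, Cert.pm, mul_assoc]
      rw [aut_ext β γ (bx.trans (Subtype.ext ((hγ x).trans eax)).symm)
        (bh.trans (Subtype.ext ((hγ h).trans eah)).symm) es]
      exact hγP
    · exfalso
      have h1 : wordR x h s wd = 1 := Subtype.ext (Equiv.ext fun i => Fin.ext (by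
        rw [coe_wordR (D := D) rfl rfl, wordP_val C (g := (s : Equiv.Perm (Fin D.n))) (F := im D.w D.s) fun b => (perm_val os b).symm]
        exact beq_iff_eq.1 (rones wd hwd i (List.mem_range.2 i.2))))
      have h2 := hw wd
      rw [h1, map_one] at h2
      apply hne
      rw [← wordP_val C hF wd ⟨b, hbY b hb⟩, ← h2]
      rfl
    · exfalso
      obtain ⟨i, hi, hne⟩ := List.any_eq_true.1 (rnots wd hwd)
      rw [bne_iff_ne] at hne
      apply hne
      have h1 : β (wordR x h s wd) = 1 := Subtype.ext (CY.ext (Subtype.prop _) (one_mem R) fun b hb => Fin.ext (by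
        rw [hw, wordP_val C hF]; exact he b hb))
      have h2 := β.injective (h1.trans (map_one β).symm)
      rw [← wordP_val C (g := (s : Equiv.Perm (Fin D.n))) (F := im D.w D.s) (fun b => (perm_val os b).symm) wd ⟨i, List.mem_range.1 hi⟩,
        ← coe_wordR (D := D) (x := x) (h := h) rfl rfl, h2]
      rfl
  -- `β` fixing `x`
  have fixx : ∀ β : MulAut R, β x = x → P β := by
    intro β bx
    set z := h⁻¹ * β h with hz
    have hzx : z * x = x * z := by
      have h1 : β h * x = x ^ D.e * β h := by
        have := congrArg β ehx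
        rwa [map_mul, map_mul, map_pow, bx] at this
      calc h⁻¹ * β h * x = h⁻¹ * (β h * x) := by group
        _ = h⁻¹ * x ^ D.e * β h := by rw [h1]; group
        _ = x * (h⁻¹ * β h) := by
          rw [show h⁻¹ * x ^ D.e = x * h⁻¹ from ?_]
          · group
          · rw [eq_mul_inv_iff_mul_eq, mul_assoc, ← ehx, inv_mul_cancel_left]
    obtain ⟨F, hF, hgood⟩ := CX.search_sound C.searchX z.2 fun k _ F hF => by
      refine okC_of_commute C.planX (by simpa using ox) hbX ?_ k F hF
      rw [← perm_eq_prodP]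
      exact congrArg Subtype.val hzx
    simp only [goodX, Bool.or_eq_true, List.any_eq_true, List.all_eq_true, bne_iff_ne, beq_iff_eq,
      List.mem_range] at hgood
    rcases hgood with ⟨i, hi, he⟩ | ⟨b, hb, hne⟩
    · have ez : z = x ^ i := Subtype.ext (CX.ext z.2 (x ^ i).2 fun b hb => Fin.ext (by
        rw [← hF b, he b hb, ← prodP_val (okrep ox), prodP_replicate]
        rfl))
      have ebh : β h = h * x ^ i := by rw [← ez, hz, mul_inv_cancel_left]
      obtain ⟨j, hj, k, hk, h1, h2⟩ := hres.2 i hi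
      refine hPc (x ^ j) β (stab _ ?_ ?_)
      · show x ^ j * β x * (x ^ j)⁻¹ = x
        rw [bx, ← pow_succ, pow_succ', mul_inv_cancel_right]
      · show x ^ j * β h * (x ^ j)⁻¹ = h
        have hc : x ^ j = h * x ^ k * h⁻¹ := by
          have := hpow 1
          rw [pow_one, pow_one] at this
          rw [← conj_pow, this, ← pow_mul, xmod (D.e * k), h1]
        calc x ^ j * β h * (x ^ j)⁻¹ = h * x ^ k * h⁻¹ * (h * x ^ i) * (x ^ j)⁻¹ := by rw [ebh, hc]
          _ = h * (x ^ (k + i) * (x ^ j)⁻¹) := by rw [pow_add]; group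
          _ = h := by rw [xmod (k + i), h2, mul_inv_cancel, mul_one]
    · exfalso
      have hhz : (h * z) ^ D.ho = 1 := by
        rw [hz, mul_inv_cancel_left, ← map_pow, ehh, map_one]
      have key : ∀ m : ℕ, ∀ i : Fin D.n, ((((h * z) ^ m : R) : Equiv.Perm (Fin D.n)) i : ℕ) =
          (List.replicate m ()).foldr (fun _ q => im D.w D.h (F q)) i := by
        intro m
        induction m with
        | zero => intro i; rfl
        | succ m ih =>
          intro i
          rw [pow_succ', Subgroup.coe_mul, Equiv.Perm.mul_apply, Subgroup.coe_mul, Equiv.Perm.mul_apply,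
            List.replicate_succ, List.foldr_cons, ← ih i, hF]
          exact perm_val oh _
      apply hne
      rw [← key D.ho ⟨b, hbX b hb⟩, hhz]
      rfl
  -- every automorphism
  have all : ∀ α : MulAut R, P α := by
    intro α
    have hfac : (Nat.card R).factorization D.p = 1 := by
      have h1 : D.p ∣ Nat.card R := hord' ▸ orderOf_dvd_natCard x
      have h2 := (hp.dvd_iff_one_le_factorization Nat.card_pos.ne').1 h1
      have h3 : ¬ 2 ≤ (Nat.card R).factorization D.p := fun hh =>
        hsq ((hp.pow_dvd_iff_le_factorization Nat.card_pos.ne').2 hh)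
      omega
    have hP : Nat.card (Subgroup.zpowers x) = D.p ^ (Nat.card R).factorization D.p := by
      rw [Nat.card_zpowers, hord', hfac, pow_one]
    have hQ : Nat.card (Subgroup.zpowers (α x)) = D.p ^ (Nat.card R).factorization D.p := by
      rw [← hP, Nat.card_zpowers, Nat.card_zpowers, MulEquiv.orderOf_eq]
    obtain ⟨g, hg⟩ := MulAction.exists_smul_eq R (Sylow.ofCard _ hQ) (Sylow.ofCard _ hP)
    have hmem : g * α x * g⁻¹ ∈ Subgroup.zpowers x := by
      have h1 : g * α x * g⁻¹ ∈ (g • Sylow.ofCard _ hQ : Sylow D.p R).toSubgroup := by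
        rw [Sylow.coe_subgroup_smul]
        exact ⟨α x, Subgroup.mem_zpowers _, rfl⟩
      rw [hg] at h1
      exact h1
    obtain ⟨r, hr⟩ : ∃ r : ℕ, x ^ r = g * α x * g⁻¹ := (Submonoid.mem_powers_iff _ _).1
      ((mem_powers_iff_mem_zpowers (G := R)).2 hmem)
    rw [xmod] at hr
    have hrp : r % D.p < D.p := Nat.mod_lt _ hp.pos
    have hr0 : r % D.p ≠ 0 := fun e => by
      rw [e, pow_zero] at hr
      have h7 : orderOf (g * α x * g⁻¹) = D.p := by
        rw [show g * α x * g⁻¹ = MulAut.conj g (α x) from rfl, MulEquiv.orderOf_eq, MulEquiv.orderOf_eq, hord']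
      rw [← hr, orderOf_one] at h7
      exact hp.ne_one h7.symm
    obtain ⟨i, -, hi⟩ := (hres.1 _ hrp).resolve_left hr0
    have fin : ∀ β : MulAut R, β x = x ^ (D.e ^ i) → P β := fun β hβ => by
      refine hPc (h ^ i)⁻¹ β (fixx _ ?_)
      show (h ^ i)⁻¹ * β x * (h ^ i)⁻¹⁻¹ = x
      rw [hβ, ← hpow]; group
    rcases hi with hi | hi
    · refine hPc g α (fin _ ?_)
      show g * α x * g⁻¹ = _
      rw [← hr, xmod (D.e ^ i), hi]
    · refine hPc g α (hPT _ (fin _ ?_))
      show T (g * α x * g⁻¹) = _
      rw [← hr, map_pow, show T x = x ^ D.f from Subtype.ext etx, ← pow_mul, xmod (D.f * (r % D.p)), xmod (D.e ^ i), hi]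
  -- only the identity centralises
  have cent : ∀ z : Equiv.Perm (Fin D.n), (∀ g ∈ R, z * g = g * z) → z = 1 := by
    intro z hz
    have hm := C.move
    have hcx := C.chainX
    unfold moveOK at hm
    split at hm
    · next b bs T' Ts hb hT' =>
      rw [hb, hT'] at hcx
      simp only [chainOK, Bool.and_eq_true, decide_eq_true_eq, Nat.blt_eq] at hcx
      obtain ⟨⟨⟨hbn, -⟩, hnd⟩, hrest⟩ := hcx
      simp only [Bool.and_eq_true, beq_iff_eq, List.all_eq_true, List.mem_range, Bool.or_eq_true,
        List.any_eq_true, bne_iff_ne] at hm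
      obtain ⟨hlen, hmove⟩ := hm
      have h0 : z ⟨b, hbn⟩ = ⟨b, hbn⟩ := by
        by_contra hne
        obtain ⟨t, ht, htne⟩ := (hmove _ (z ⟨b, hbn⟩).2).resolve_left fun e => hne (Fin.ext e)
        obtain ⟨T'', hT'', htm⟩ := List.mem_flatten.1 ht
        have hok := CX.mem T'' (by rw [hT']; exact List.mem_cons_of_mem _ hT'') t htm
        have hfix := chain_fix hrest T'' hT'' t htm b (by simp)
        have := congrArg (fun f : Equiv.Perm (Fin D.n) => f ⟨b, hbn⟩) (hz _ hok.2)
        simp only [Equiv.Perm.mul_apply] at this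
        rw [show perm D.n D.w t ⟨b, hbn⟩ = ⟨b, hbn⟩ from Fin.ext ((perm_val hok.1 _).trans hfix)] at this
        exact htne ((perm_val hok.1 _).symm.trans (congrArg Fin.val this.symm))
      refine Equiv.ext fun p => ?_
      have htok : ∀ t ∈ T', okP D.n D.w t = true ∧ perm D.n D.w t ∈ R := fun t ht =>
        CX.mem T' (by rw [hT']; exact List.mem_cons_self ..) t ht
      let f : {t // t ∈ T'.toFinset} → Fin D.n := fun t => perm D.n D.w t.1 ⟨b, hbn⟩
      have hf : Function.Injective f := fun t u e => Subtype.ext (by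
        refine List.inj_on_of_nodup_map hnd (List.mem_toFinset.1 t.2) (List.mem_toFinset.1 u.2) ?_
        rw [← perm_val (htok _ (List.mem_toFinset.1 t.2)).1 ⟨b, hbn⟩,
          ← perm_val (htok _ (List.mem_toFinset.1 u.2)).1 ⟨b, hbn⟩]
        exact congrArg Fin.val e)
      have hbij := hf.bijective_of_nat_card_le (by
        rw [Nat.card_eq_finsetCard, List.toFinset_card_of_nodup (hnd.of_map _), hlen, Nat.card_fin])
      obtain ⟨⟨t, ht⟩, rfl⟩ := hbij.2 p
      have := congrArg (fun g : Equiv.Perm (Fin D.n) => g ⟨b, hbn⟩)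
        (hz _ (htok t (List.mem_toFinset.1 ht)).2)
      simp only [Equiv.Perm.mul_apply, h0] at this
      exact this
    · simp at hm
  have notMem : τ ∉ R := by
    intro hm
    obtain ⟨F, hF, hgood⟩ := CX.search_sound C.searchT hm fun k hk F hF => by
      have hlen : D.bsX.length = D.tsX.length := by
        have : ∀ (bs : List ℕ) (Ts : List (List ℕ)) (d : List ℕ), chainOK D.n D.w bs Ts d = true → bs.length = Ts.length := by
          intro bs
          induction bs with
          | nil =>
            intro Ts d hh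
            cases Ts with
            | nil => rfl
            | cons => simp [chainOK] at hh
          | cons b bs ih =>
            intro Ts d hh
            cases Ts with
            | nil => simp [chainOK] at hh
            | cons T' Ts =>
              simp only [chainOK, Bool.and_eq_true] at hh
              simp [ih _ _ hh.2]
        exact this _ _ _ C.chainX
      rw [okT, beq_iff_eq]
      have hk' : k < D.bsX.length := hlen ▸ hk
      rw [List.getD_eq_getElem _ _ hk']
      have hlt := hbX _ (List.getElem_mem hk')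
      rw [hF ⟨D.bsX[k], hlt⟩ (List.mem_take_iff_getElem.2 ⟨k, by omega, rfl⟩)]
      exact perm_val ot _
    simp only [goodT, List.any_eq_true, bne_iff_ne] at hgood
    obtain ⟨i, hi, hne⟩ := hgood
    exact hne ((hF ⟨i, List.mem_range.1 hi⟩).trans (perm_val ot _))
  rw [Nat.card_eq_two_iff]
  refine ⟨1, q T, fun e => ?_, Set.eq_univ_of_forall fun a => ?_⟩
  · obtain ⟨g, hg⟩ : T ∈ Cfsg.Inn R := (QuotientGroup.eq_one_iff _).1 e.symm
    refine notMem ?_
    have hc : τ * (g : Equiv.Perm (Fin D.n)) = 1 := cent _ fun u hu => by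
      have h1 := congrArg Subtype.val (DFunLike.congr_fun hg ⟨u, hu⟩)
      change (g : Equiv.Perm (Fin D.n)) * u * (g : Equiv.Perm (Fin D.n))⁻¹ = τ * u * τ at h1
      calc τ * g * u = τ * ((g : Equiv.Perm (Fin D.n)) * u * (g : Equiv.Perm (Fin D.n))⁻¹) * g := by group
        _ = u * (τ * g) := by rw [h1, ← mul_assoc, ← mul_assoc, ett, one_mul, mul_assoc]
    have : τ = (g : Equiv.Perm (Fin D.n)) := by
      rw [← one_mul (g : Equiv.Perm (Fin D.n)), ← ett, mul_assoc, hc, mul_one]
    rw [this]; exact g.2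
  · obtain ⟨α, rfl⟩ := QuotientGroup.mk_surjective a
    exact all α

end Cert

end Cfsg.Agent.Lib.PermOut
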