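import Cfsg.Agent.Lib.PermOut.Out

/-!
# Certificates that a permutation group has only inner automorphisms

The field `tau` of a certificate holds the code of `x ^ f`, where `f * f = 1` modulo `p` and `f` with
the powers of `e` covers all residues.  One search shows that an automorphism fixing `x` and `h`
fixes `s`; the other that none sends `x` to `x ^ f` fixing `h`.
-/

set_option autoImplicit false

namespace Cfsg.Agent.Lib.PermOut.Cert

variable (D : Cert)

/-- The value of a word with `tau` in place of `x`. -/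
def evalT (F : ℕ → ℕ) (wd : List ℕ) (i : ℕ) : ℕ :=
  wd.foldr (fun a j => if a == 0 then im D.w D.tau j else if a == 1 then im D.w D.h j else F j) i

/-- The relations. -/
def relTriv : Bool :=
  Nat.blt 1 D.p && Nat.blt 0 D.ho && okP D.n D.w D.tau && (D.f * D.f % D.p == 1) &&
    D.same (List.replicate D.p D.x) [] && !D.same [D.x] [] &&
    D.same (List.replicate D.ho D.h) [] &&
    D.same [D.h, D.x] (List.replicate D.e D.x ++ [D.h]) &&
    D.same (D.y ++ [D.s]) (D.s :: D.y) &&
    D.same [D.tau] (List.replicate D.f D.x) &&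
    (D.ones.all fun wd => (List.range D.n).all fun i => D.evalW (im D.w D.s) wd i == i)

/-- Every residue is reached and every power can be absorbed. -/
def resTriv : Bool :=
  ((List.range D.p).all fun r => r == 0 ||
    (List.range D.p).any fun i => D.e ^ i % D.p == r || D.e ^ i * D.f % D.p == r) &&
  ((List.range D.p).all fun i => (List.range D.p).any fun j => (List.range D.p).any fun k =>
    D.e * k % D.p == j && (k + i) % D.p == j)

/-- Leaves for automorphisms fixing `x`. -/
def goodS (F : ℕ → ℕ) : Bool :=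
  (D.bsY.all fun b => F b == im D.w D.s b) || D.ones.any fun wd => D.bsY.any fun b => D.evalW F wd b != b

/-- Leaves for automorphisms sending `x` to `x ^ f`. -/
def goodN (F : ℕ → ℕ) : Bool := D.ones.any fun wd => D.bsY.any fun b => D.evalT F wd b != b

/-- All certificate checks. -/
structure TrivChecks : Prop where
  slps : D.slpsOK = true
  trans : D.transOK = true
  chainX : chainOK D.n D.w D.bsX D.tsX [] = true
  chainY : chainOK D.n D.w D.bsY D.tsY [] = true
  rel : D.relTriv = true
  res : D.resTriv = true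
  planX : D.planOK [D.x] D.bsX D.planX = true
  planY : D.planOK D.y D.bsY D.planY = true
  searchX : search (D.okC [D.x] D.planX) D.goodX D.w D.tsX 0 [] = true
  searchS : search (D.okC D.y D.planY) D.goodS D.w D.tsY 0 [] = true
  searchN : search (D.okC D.y D.planY) D.goodN D.w D.tsY 0 [] = true

variable {D} {R : Subgroup (Equiv.Perm (Fin D.n))}

theorem wordR_val {a b g : R} {ca cb : ℕ} {F : ℕ → ℕ}
    (ha : (a : Equiv.Perm (Fin D.n)) = D.pm ca) (hb : (b : Equiv.Perm (Fin D.n)) = D.pm cb)
    (oa : okP D.n D.w ca = true) (ob : okP D.n D.w cb = true)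
    (hF : ∀ i : Fin D.n, F i = ((g : Equiv.Perm (Fin D.n)) i : ℕ)) (wd : List ℕ) (i : Fin D.n) :
    ((((wordR a b g wd : R) : Equiv.Perm (Fin D.n)) i : Fin D.n) : ℕ) =
      wd.foldr (fun c j => if c == 0 then im D.w ca j else if c == 1 then im D.w cb j else F j) i := by
  induction wd with
  | nil => rfl
  | cons c wd ih =>
    rw [wordR, List.map_cons, List.prod_cons, Subgroup.coe_mul, Equiv.Perm.mul_apply, List.foldr_cons, ← ih]
    split_ifs
    · rw [ha]; exact perm_val oa _
    · rw [hb]; exact perm_val ob _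
    · exact (hF _).symm

theorem card_out_trivial (C : D.TrivChecks) (hgens : ∀ c ∈ D.gens, D.pm c ∈ R)
    (hord : D.orderOK (Nat.card R) = true) (hp : D.p.Prime) (hsq : ¬ D.p ^ 2 ∣ Nat.card R) :
    Nat.card (Cfsg.Out R) = 1 := by
  have := Fact.mk hp
  have : Finite R := inferInstance
  have h1 := C.slps
  simp only [slpsOK, Bool.and_eq_true, List.all_eq_true] at h1
  obtain ⟨⟨⟨hg, hs1⟩, hc⟩, hs2⟩ := h1
  have hall := slp_mem (L := R) hs1 fun q hq => ⟨hg q hq, hgens q hq⟩
  have mem3 := fun c (hm : c ∈ [D.x, D.h, D.s]) => hall c (List.contains_iff_mem.1 (hc c hm))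
  obtain ⟨ox, mx⟩ := mem3 D.x (by simp)
  obtain ⟨oh, mh⟩ := mem3 D.h (by simp)
  obtain ⟨os, ms⟩ := mem3 D.s (by simp)
  have hsub : ∀ L : Subgroup (Equiv.Perm (Fin D.n)), D.pm D.x ∈ L → D.pm D.h ∈ L → D.pm D.s ∈ L →
      ∀ c ∈ D.subAll, okP D.n D.w c = true ∧ D.pm c ∈ L := by
    intro L a b c
    refine slp_mem hs2 fun q hq => ?_
    simp only [List.mem_cons, List.not_mem_nil, or_false] at hq
    rcases hq with rfl | rfl | rfl
    exacts [⟨ox, a⟩, ⟨oh, b⟩, ⟨os, c⟩]
  have ht := C.trans
  simp only [transOK, Bool.and_eq_true, List.all_eq_true] at ht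
  simp only [orderOK, Bool.and_eq_true, beq_iff_eq] at hord
  have CX : Chain R D.w D.bsX D.tsX := ⟨C.chainX,
    fun T hT t hm => hsub R mx mh ms t (List.contains_iff_mem.1 (ht.1 T hT t hm)), hord.1⟩
  have CY : Chain R D.w D.bsY D.tsY := ⟨C.chainY,
    fun T hT t hm => hsub R mx mh ms t (List.contains_iff_mem.1 (ht.2 T hT t hm)), hord.2⟩
  have hbX := chain_base_lt C.chainX
  have hbY := chain_base_lt C.chainY
  set x : R := ⟨_, mx⟩ with hx0
  set h : R := ⟨_, mh⟩ with hh0
  set s : R := ⟨_, ms⟩ with hs0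
  have okrep : ∀ {k c : ℕ}, okP D.n D.w c = true → ∀ q ∈ List.replicate k c, okP D.n D.w q = true :=
    fun hc q hq => by rw [List.eq_of_mem_replicate hq]; exact hc
  have hrel := C.rel
  simp only [relTriv, Bool.and_eq_true, List.all_eq_true, Bool.not_eq_true', Nat.blt_eq, beq_iff_eq] at hrel
  obtain ⟨⟨⟨⟨⟨⟨⟨⟨⟨⟨hp1, hho⟩, ot⟩, hff⟩, rxp⟩, rxne⟩, rhh⟩, rhx⟩, rys⟩, rtx⟩, rones⟩ := hrel
  have aut_ext : ∀ β γ : MulAut R, β x = γ x → β h = γ h → β s = γ s → β = γ := by
    intro β γ a b c
    refine MulEquiv.ext fun g => ?_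
    have hle : R ≤ (MonoidHom.eqLocus β.toMonoidHom γ.toMonoidHom).map R.subtype := by
      refine CX.le fun T hT t hm => (hsub ((MonoidHom.eqLocus β.toMonoidHom γ.toMonoidHom).map R.subtype) ⟨x, a, rfl⟩ ⟨h, b, rfl⟩ ⟨s, c, rfl⟩ t ?_).2
      exact List.contains_iff_mem.1 (ht.1 T hT t hm)
    obtain ⟨g', hg', e⟩ := hle g.2
    rw [show g = g' from Subtype.ext e.symm]
    exact hg'
  have exp : x ^ D.p = 1 := Subtype.ext (by
    have := same_prod (okrep ox) (by simp) rxp
    rw [prodP_replicate] at this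
    simpa [prodP, hx0, Cert.pm] using this)
  have exne : x ≠ 1 := fun e => by
    rw [Bool.eq_false_iff] at rxne
    refine rxne (List.all_eq_true.2 fun i hi => ?_)
    rw [beq_iff_eq]
    have hv := prodP_val (l := [D.x]) (by simpa using ox) ⟨i, List.mem_range.1 hi⟩
    rw [← perm_eq_prodP, show perm D.n D.w D.x = 1 from congrArg Subtype.val e] at hv
    exact hv.symm
  have hord' : orderOf x = D.p := orderOf_eq_prime exp exne
  have xmod : ∀ a, x ^ a = x ^ (a % D.p) := fun a => by rw [← hord', pow_mod_orderOf]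
  have ehh : h ^ D.ho = 1 := Subtype.ext (by
    have := same_prod (okrep oh) (by simp) rhh
    rw [prodP_replicate] at this
    simpa [prodP, hh0, Cert.pm] using this)
  have etx : ((x ^ D.f : R) : Equiv.Perm (Fin D.n)) = D.pm D.tau := by
    have := same_prod (l := [D.tau]) (by simpa using ot) (okrep ox) rtx
    rw [prodP_replicate, ← perm_eq_prodP] at this
    rw [Subgroup.coe_pow]
    exact this.symm
  have ehx : h * x = x ^ D.e * h := Subtype.ext (by
    have hok : ∀ q ∈ List.replicate D.e D.x ++ [D.h], okP D.n D.w q = true := fun q hq => by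
      rcases List.mem_append.1 hq with hq | hq
      · exact okrep ox q hq
      · rw [List.mem_singleton.1 hq]; exact oh
    have := same_prod (by simp [oh, ox]) hok rhx
    rw [prodP_append, prodP_replicate] at this
    simpa [prodP, hx0, hh0, Cert.pm] using this)
  have hpow : ∀ i : ℕ, h ^ i * x * (h ^ i)⁻¹ = x ^ (D.e ^ i) := by
    intro i
    induction i with
    | zero => simp
    | succ i ih =>
      have h3 : h * x * h⁻¹ = x ^ D.e := by rw [ehx, mul_inv_cancel_right]
      calc h ^ (i + 1) * x * (h ^ (i + 1))⁻¹ = h * (h ^ i * x * (h ^ i)⁻¹) * h⁻¹ := by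
            rw [pow_succ']; group
        _ = (h * x * h⁻¹) ^ (D.e ^ i) := by rw [ih, conj_pow]
        _ = x ^ (D.e ^ (i + 1)) := by rw [h3, ← pow_mul, ← pow_succ']
  have eys : h ^ D.kp * s = s * h ^ D.kp := Subtype.ext (by
    have hy : ∀ q ∈ D.y, okP D.n D.w q = true := okrep oh
    have := same_prod (l := D.y ++ [D.s]) (m := D.s :: D.y) (by simpa [or_imp, forall_and, os] using hy)
      (by simpa [os] using hy) rys
    rw [← List.singleton_append (x := D.s), prodP_append, prodP_append, y, prodP_replicate] at this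
    simpa [prodP, hh0, hs0, Cert.pm] using this)
  have hres := C.res
  simp only [resTriv, Bool.and_eq_true, List.all_eq_true, List.any_eq_true, List.mem_range, Bool.or_eq_true,
    beq_iff_eq] at hres
  have hone : ∀ wd ∈ D.ones, wordR x h s wd = 1 := fun wd hwd => Subtype.ext (Equiv.ext fun i => Fin.ext (by
    rw [wordR_val (D := D) (a := x) (b := h) (g := s) rfl rfl ox oh (F := im D.w D.s) (fun b => (perm_val os b).symm)]
    exact rones wd hwd i (List.mem_range.2 i.2)))
  have hok : ∀ β : MulAut R, β h = h → ∀ k, k < D.tsY.length → ∀ F : ℕ → ℕ,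
      (∀ b : Fin D.n, (b : ℕ) ∈ D.bsY.take (k + 1) → F b = ((β s : R) : Equiv.Perm (Fin D.n)) b) →
      D.okC D.y D.planY k F = true := fun β bh k _ F hF => by
    refine okC_of_commute C.planY (okrep oh) hbY ?_ k F hF
    have := congrArg β eys
    rw [map_mul, map_mul, map_pow, bh] at this
    have := (congrArg Subtype.val this).symm
    simpa [y, prodP_replicate, hh0, Cert.pm] using this
  have bad : ∀ β : MulAut R, ∀ ca : ℕ, okP D.n D.w ca = true → ((β x : R) : Equiv.Perm (Fin D.n)) = D.pm ca →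
      β h = h → ∀ F : ℕ → ℕ, (∀ b : Fin D.n, F b = ((β s : R) : Equiv.Perm (Fin D.n)) b) → ∀ wd ∈ D.ones,
      ∀ b ∈ D.bsY, wd.foldr (fun c j => if c == 0 then im D.w ca j else if c == 1 then im D.w D.h j else F j) b = b := by
    intro β ca oa bx bh F hF wd hwd b hb
    have h2 := wordR_val (D := D) (a := β x) (b := β h) (g := β s) bx (congrArg Subtype.val bh) oa oh hF wd ⟨b, hbY b hb⟩
    rw [← h2, show wordR (β x) (β h) (β s) wd = β.toMonoidHom (wordR x h s wd) from
      (map_wordR β.toMonoidHom x h s wd).symm, hone wd hwd, map_one]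
    rfl
  have stab : ∀ β : MulAut R, β x = x → β h = h → β = 1 := by
    intro β bx bh
    obtain ⟨F, hF, hgood⟩ := CY.search_sound C.searchS (β s).2 (hok β bh)
    simp only [goodS, Bool.or_eq_true, List.any_eq_true, List.all_eq_true, bne_iff_ne, beq_iff_eq] at hgood
    rcases hgood with he | ⟨wd, hwd, b, hb, hne⟩
    · refine aut_ext β 1 bx bh (Subtype.ext (CY.ext (β s).2 s.2 fun b hb => Fin.ext ?_))
      rw [← hF b, he b hb]
      exact (perm_val os b).symm
    · exact absurd (bad β D.x ox (congrArg Subtype.val bx) bh F hF wd hwd b hb) hne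
  have noneg : ∀ β : MulAut R, β x = x ^ D.f → β h = h → False := by
    intro β bx bh
    obtain ⟨F, hF, hgood⟩ := CY.search_sound C.searchN (β s).2 (hok β bh)
    simp only [goodN, List.any_eq_true, bne_iff_ne] at hgood
    obtain ⟨wd, hwd, b, hb, hne⟩ := hgood
    exact hne (bad β D.tau ot (by rw [bx, etx]) bh F hF wd hwd b hb)
  have hInn : ∀ g : R, MulAut.conj g ∈ Cfsg.Inn R := fun g => ⟨g, rfl⟩
  have hPc : ∀ (g : R) (a : MulAut R), MulAut.conj g * a ∈ Cfsg.Inn R → a ∈ Cfsg.Inn R := fun g a ha => by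
    have := mul_mem (inv_mem (hInn g)) ha
    rwa [inv_mul_cancel_left] at this
  have fixh : ∀ (β : MulAut R) (k : ℕ), β x = x ^ k → (x ^ k) ^ k = x →
      ∃ g : R, (MulAut.conj g * β) x = x ^ k ∧ (MulAut.conj g * β) h = h := by
    intro β k bx hk
    set z := h⁻¹ * β h with hz
    have hzx : z * x = x * z := by
      have h1 : β h * x = x ^ D.e * β h := by
        have h0 := congrArg β ehx
        rw [map_mul, map_mul, map_pow, bx] at h0
        have h0' : β h * x ^ k * (β h)⁻¹ = (x ^ k) ^ D.e := by rw [h0, mul_inv_cancel_right]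
        have h2 : β h * x * (β h)⁻¹ = x ^ D.e := by
          conv_lhs => rw [← hk]
          rw [← conj_pow, h0', ← pow_mul, mul_comm D.e k, pow_mul, hk]
        rw [← h2, inv_mul_cancel_right]
      calc h⁻¹ * β h * x = h⁻¹ * (β h * x) := by group
        _ = h⁻¹ * x ^ D.e * β h := by rw [h1]; group
        _ = x * (h⁻¹ * β h) := by
          rw [show h⁻¹ * x ^ D.e = x * h⁻¹ from ?_]
          · group
          · rw [eq_mul_inv_iff_mul_eq, mul_assoc, ← ehx, inv_mul_cancel_left]
    obtain ⟨F, hF, hgood⟩ := CX.search_sound C.searchX z.2 fun k _ F hF => by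
      refine okC_of_commute C.planX (by simpa using ox) hbX ?_ k F hF
      rw [← perm_eq_prodP]
      exact congrArg Subtype.val hzx
    simp only [goodX, Bool.or_eq_true, List.any_eq_true, List.all_eq_true, bne_iff_ne, beq_iff_eq,
      List.mem_range] at hgood
    rcases hgood with ⟨i, hi, he⟩ | ⟨b, hb, hne⟩
    · have ez : z = x ^ i := Subtype.ext (CX.ext z.2 (x ^ i).2 fun b hb => Fin.ext (by
        rw [← hF b, he b hb, ← prodP_val (okrep ox), prodP_replicate]
        rfl))
      have ebh : β h = h * x ^ i := by rw [← ez, hz, mul_inv_cancel_left]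
      obtain ⟨j, hj, l, hl, h1, h2⟩ := hres.2 i hi
      refine ⟨x ^ j, ?_, ?_⟩
      · show x ^ j * β x * (x ^ j)⁻¹ = x ^ k
        rw [bx, ← pow_add, add_comm, pow_add, mul_inv_cancel_right]
      · show x ^ j * β h * (x ^ j)⁻¹ = h
        have hc : x ^ j = h * x ^ l * h⁻¹ := by
          have := hpow 1
          rw [pow_one, pow_one] at this
          rw [← conj_pow, this, ← pow_mul, xmod (D.e * l), h1]
        calc x ^ j * β h * (x ^ j)⁻¹ = h * x ^ l * h⁻¹ * (h * x ^ i) * (x ^ j)⁻¹ := by rw [ebh, hc]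
          _ = h * (x ^ (l + i) * (x ^ j)⁻¹) := by rw [pow_add]; group
          _ = h := by rw [xmod (l + i), h2, mul_inv_cancel, mul_one]
    · exfalso
      have hhz : (h * z) ^ D.ho = 1 := by rw [hz, mul_inv_cancel_left, ← map_pow, ehh, map_one]
      have key : ∀ m : ℕ, ∀ i : Fin D.n, ((((h * z) ^ m : R) : Equiv.Perm (Fin D.n)) i : ℕ) =
          (List.replicate m ()).foldr (fun _ q => im D.w D.h (F q)) i := by
        intro m
        induction m with
        | zero => intro i; rfl
        | succ m ih =>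
          intro i
          rw [pow_succ', Subgroup.coe_mul, Equiv.Perm.mul_apply, Subgroup.coe_mul, Equiv.Perm.mul_apply,
            List.replicate_succ, List.foldr_cons, ← ih i, hF]
          exact perm_val oh _
      apply hne
      rw [← key D.ho ⟨b, hbX b hb⟩, hhz]
      rfl
  rw [show Nat.card (Cfsg.Out R) = (Cfsg.Inn R).index from rfl, Subgroup.index_eq_one]
  refine eq_top_iff.2 fun α _ => ?_
  have hfac : (Nat.card R).factorization D.p = 1 := by
    have h1 : D.p ∣ Nat.card R := hord' ▸ orderOf_dvd_natCard x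
    have h2 := (hp.dvd_iff_one_le_factorization Nat.card_pos.ne').1 h1
    have h3 : ¬ 2 ≤ (Nat.card R).factorization D.p := fun hh =>
      hsq ((hp.pow_dvd_iff_le_factorization Nat.card_pos.ne').2 hh)
    omega
  have hP : Nat.card (Subgroup.zpowers x) = D.p ^ (Nat.card R).factorization D.p := by
    rw [Nat.card_zpowers, hord', hfac, pow_one]
  have hQ : Nat.card (Subgroup.zpowers (α x)) = D.p ^ (Nat.card R).factorization D.p := by
    rw [← hP, Nat.card_zpowers, Nat.card_zpowers, MulEquiv.orderOf_eq]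
  obtain ⟨g, hg⟩ := MulAction.exists_smul_eq R (Sylow.ofCard _ hQ) (Sylow.ofCard _ hP)
  have hmem : g * α x * g⁻¹ ∈ Subgroup.zpowers x := by
    have h1 : g * α x * g⁻¹ ∈ (g • Sylow.ofCard _ hQ : Sylow D.p R).toSubgroup := by
      rw [Sylow.coe_subgroup_smul]
      exact ⟨α x, Subgroup.mem_zpowers _, rfl⟩
    rw [hg] at h1
    exact h1
  obtain ⟨r, hr⟩ : ∃ r : ℕ, x ^ r = g * α x * g⁻¹ := (Submonoid.mem_powers_iff _ _).1
    ((mem_powers_iff_mem_zpowers (G := R)).2 hmem)
  rw [xmod] at hr
  have hr0 : r % D.p ≠ 0 := fun e => by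
    rw [e, pow_zero] at hr
    have h7 : orderOf (g * α x * g⁻¹) = D.p := by
      rw [show g * α x * g⁻¹ = MulAut.conj g (α x) from rfl, MulEquiv.orderOf_eq, MulEquiv.orderOf_eq, hord']
    rw [← hr, orderOf_one] at h7
    exact hp.ne_one h7.symm
  obtain ⟨i, -, hi⟩ := (hres.1 _ (Nat.mod_lt r hp.pos)).resolve_left hr0
  refine hPc g α ?_
  set β := MulAut.conj g * α with hβ0
  have hβ : β x = x ^ (r % D.p) := hr.symm
  refine hPc (h ^ i)⁻¹ β ?_
  set γ := MulAut.conj (h ^ i)⁻¹ * β with hγ0
  have hback : ∀ m : ℕ, (h ^ i)⁻¹ * x ^ (D.e ^ i * m) * (h ^ i)⁻¹⁻¹ = x ^ m := by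
    intro m
    rw [pow_mul, ← hpow, conj_pow]; group
  rcases hi with hi | hi
  · have hγ : γ x = x ^ 1 := by
      show (h ^ i)⁻¹ * β x * (h ^ i)⁻¹⁻¹ = _
      rw [hβ, ← hi, ← xmod]; simpa using hback 1
    obtain ⟨u, hu1, hu2⟩ := fixh γ 1 hγ (by rw [pow_one, pow_one])
    refine hPc u γ ?_
    rw [stab _ (hu1.trans (pow_one x)) hu2]
    exact one_mem _
  · have hγ : γ x = x ^ D.f := by
      show (h ^ i)⁻¹ * β x * (h ^ i)⁻¹⁻¹ = _
      rw [hβ, ← hi, ← xmod]; exact hback D.f
    obtain ⟨u, hu1, hu2⟩ := fixh γ D.f hγ (by rw [← pow_mul, xmod, hff, pow_one])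
    exact (noneg _ hu1 hu2).elim

end Cfsg.Agent.Lib.PermOut.Cert
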